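import Mathlib

/-!
# S5188 design (helper8): shared definitions

Groups `B` of order `p ^ 4`.  `Inv K` says that the subgroup `K` is mapped into itself by every
automorphism; `HasChain p B` is a chain `K₁ ≤ K₂ ≤ K₃` of such subgroups of orders `p, p², p³`
(such a chain contradicts essentiality, by helper26's `not_essential_of_chain`).
-/

set_option autoImplicit false

namespace Cfsg.Agent.Helper8.E4

open Subgroup

open scoped commutatorElement

variable {B : Type*} [Group B]

/-- every automorphism maps `K` into itself -/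
def Inv (K : Subgroup B) : Prop := ∀ α : MulAut B, ∀ y ∈ K, α y ∈ K

/-- an automorphism-invariant chain `K₁ ≤ K₂ ≤ K₃` of orders `p`, `p²`, `p³` -/
def HasChain (p : ℕ) (B : Type*) [Group B] : Prop :=
  ∃ K₁ K₂ K₃ : Subgroup B, K₁ ≤ K₂ ∧ K₂ ≤ K₃ ∧ Nat.card K₁ = p ∧ Nat.card K₂ = p ^ 2 ∧
    Nat.card K₃ = p ^ 3 ∧ Inv K₁ ∧ Inv K₂ ∧ Inv K₃

theorem inv_of_characteristic (K : Subgroup B) [hK : K.Characteristic] : Inv K := by
  intro α y hy
  have h := (Subgroup.characteristic_iff_le_comap.mp hK) α
  exact h hy

theorem inv_center : Inv (center B) := inv_of_characteristic _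

theorem inv_commutator : Inv (commutator B) := inv_of_characteristic _

theorem inv_centralizer {K : Subgroup B} (hK : Inv K) : Inv (centralizer (K : Set B)) := by
  intro α y hy
  rw [mem_centralizer_iff] at hy ⊢
  intro k hk
  have h1 := hK α⁻¹ k hk
  have h2 := hy (α⁻¹ k) h1
  have h3 := congrArg α h2
  rw [map_mul, map_mul, MulAut.apply_inv_self] at h3
  exact h3

/-- the kernel of a homomorphism commuting with all automorphisms is invariant -/
theorem inv_ker {C : Type*} [Group C] (f : B →* C) (g : MulAut B → C → C)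
    (hg : ∀ α x, f (α x) = g α (f x)) (hg1 : ∀ α, g α 1 = 1) : Inv f.ker := by
  intro α y hy
  rw [MonoidHom.mem_ker] at hy ⊢
  rw [hg, hy, hg1]

/-- a subgroup cut out by a condition `x ^ n ∈ K` with `K` invariant is invariant -/
theorem inv_of_pow_mem {K M : Subgroup B} (hK : Inv K) (n : ℕ)
    (hM : ∀ x, x ∈ M ↔ x ^ n ∈ K) : Inv M := by
  intro α y hy
  rw [hM] at hy ⊢
  rw [← map_pow]
  exact hK α _ hy

/-- class two power formula: if `c = ⁅y, x⁆` commutes with `x` and `y` then
`(x y)ⁿ = xⁿ yⁿ c^(n choose 2)`. -/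
theorem mul_pow_of_commutator_central (x y : B) (hx : Commute x ⁅y, x⁆) (hy : Commute y ⁅y, x⁆)
    (n : ℕ) : (x * y) ^ n = x ^ n * y ^ n * ⁅y, x⁆ ^ (n.choose 2) := by
  set c := ⁅y, x⁆ with hc
  have hyx : y * x = c * (x * y) := by
    rw [hc, commutatorElement_def]; group
  have hynx : ∀ m : ℕ, y ^ m * x = c ^ m * (x * y ^ m) := by
    intro m
    induction m with
    | zero => simp
    | succ m ih =>
      have hyc : Commute y (c ^ m) := hy.pow_right m
      calc y ^ (m + 1) * x = y * (y ^ m * x) := by rw [pow_succ', mul_assoc]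
        _ = y * (c ^ m * (x * y ^ m)) := by rw [ih]
        _ = c ^ m * (y * x) * y ^ m := by
            rw [← mul_assoc y, hyc.eq, mul_assoc, mul_assoc, mul_assoc]
        _ = c ^ m * (c * (x * y)) * y ^ m := by rw [hyx]
        _ = c ^ (m + 1) * (x * y ^ (m + 1)) := by
            rw [pow_succ, pow_succ' y]; simp only [mul_assoc]
  induction n with
  | zero => simp
  | succ n ih =>
    have hxc : ∀ m : ℕ, Commute x (c ^ m) := fun m => hx.pow_right m
    have hycm : ∀ m k : ℕ, Commute (y ^ k) (c ^ m) := fun m k => (hy.pow_right m).pow_left k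
    have hxcm : ∀ m k : ℕ, Commute (x ^ k) (c ^ m) := fun m k => (hx.pow_right m).pow_left k
    calc (x * y) ^ (n + 1) = (x * y) ^ n * (x * y) := pow_succ _ _
      _ = x ^ n * y ^ n * c ^ (n.choose 2) * (x * y) := by rw [ih]
      _ = x ^ n * (y ^ n * x) * y * c ^ (n.choose 2) := by
          have h1 : Commute (c ^ (n.choose 2)) (x * y) :=
            ((hxc _).symm).mul_right ((hy.pow_right _).symm)
          rw [mul_assoc (x ^ n * y ^ n), h1.eq]
          simp only [mul_assoc]
      _ = x ^ n * (c ^ n * (x * y ^ n)) * y * c ^ (n.choose 2) := by rw [hynx]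
      _ = x ^ (n + 1) * y ^ (n + 1) * c ^ ((n + 1).choose 2) := by
          have e : (n + 1).choose 2 = n + n.choose 2 := by
            rw [Nat.choose_succ_succ' n 1, Nat.choose_one_right]
          have hR : x ^ (n + 1) * y ^ (n + 1) * c ^ ((n + 1).choose 2)
              = x ^ n * x * (y ^ n * y) * (c ^ n * c ^ n.choose 2) := by
            rw [e, pow_add c, pow_succ x n, pow_succ y n]
          have h3 : Commute (c ^ n) (x * y ^ n * y) :=
            (((hxc n).symm).mul_right ((hycm n n).symm)).mul_right ((hy.pow_right n).symm)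
          rw [hR]
          calc x ^ n * (c ^ n * (x * y ^ n)) * y * c ^ n.choose 2
              = x ^ n * (c ^ n * (x * y ^ n * y)) * c ^ n.choose 2 := by simp only [mul_assoc]
            _ = x ^ n * ((x * y ^ n * y) * c ^ n) * c ^ n.choose 2 := by rw [h3.eq]
            _ = x ^ n * x * (y ^ n * y) * (c ^ n * c ^ n.choose 2) := by simp only [mul_assoc]

end Cfsg.Agent.Helper8.E4
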