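import Mathlib
import Cfsg.Agent.Lib.E4.E4Defs

/-! S5188 piece E4-ABGEN (helper8 design; see plans/S5188_plan.md).  Proved by helper15. -/

set_option autoImplicit false

namespace Cfsg.Agent.Helper8.E4

open Subgroup

open scoped commutatorElement

/-- reduce an integer exponent modulo `p` when `x ^ p = 1` -/
theorem e4_abgen_zpow_mod {B : Type*} [Group B] (p : ℕ) (hp0 : 0 < p) (x : B) (hx : x ^ p = 1)
    (m : ℤ) : ∃ u : ℕ, u < p ∧ x ^ m = x ^ u := by
  have hpz : (0 : ℤ) < (p : ℤ) := by exact_mod_cast hp0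
  have h1 : 0 ≤ m % (p : ℤ) := Int.emod_nonneg _ hpz.ne'
  have h2 : m % (p : ℤ) < p := Int.emod_lt_of_pos _ hpz
  refine ⟨(m % (p : ℤ)).toNat, by omega, ?_⟩
  rw [← zpow_natCast, Int.toNat_of_nonneg h1]
  conv_lhs => rw [← Int.emod_add_mul_ediv m p]
  rw [zpow_add, zpow_mul, zpow_natCast, hx, one_zpow, mul_one]

/-- a set with more elements than the index type of `f` has a point outside the range of `f` -/
theorem e4_abgen_exists_not_range {B ι : Type*} [Finite ι] (S : Set B) (f : ι → B)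
    (hlt : Nat.card ι < Nat.card S) : ∃ x ∈ S, x ∉ Set.range f := by
  by_contra h
  push Not at h
  have hsub : S ⊆ Set.range f := h
  have hfin : (Set.range f).Finite := Set.finite_range f
  have h1 : S.ncard ≤ (Set.range f).ncard := Set.ncard_le_ncard hsub hfin
  have h2 : (Set.range f).ncard ≤ Nat.card ι := by
    rw [← Set.image_univ]
    calc (f '' Set.univ).ncard ≤ (Set.univ : Set ι).ncard := Set.ncard_image_le Set.finite_univ
      _ = Nat.card ι := Set.ncard_univ ι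
  rw [_root_.Nat.card_coe_set_eq] at hlt
  omega

/-- if `¬ p ∣ k` and `c ^ p = 1` then `c` is an integer power of `c ^ k` -/
theorem e4_abgen_root {B : Type*} [Group B] (p : ℕ) (hpp : p.Prime) (c : B) (hc : c ^ p = 1)
    (k : ℕ) (hk : ¬ p ∣ k) : ∃ u : ℤ, c = (c ^ k) ^ u := by
  have hcop : Nat.Coprime k p := (Nat.Coprime.symm ((Nat.Prime.coprime_iff_not_dvd hpp).2 hk))
  have hb := Nat.gcd_eq_gcd_ab k p
  rw [hcop] at hb
  refine ⟨Nat.gcdA k p, ?_⟩
  have h1 : c = c ^ ((k : ℤ) * Nat.gcdA k p + (p : ℤ) * Nat.gcdB k p) := by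
    rw [← hb]; simp
  rw [zpow_add, zpow_mul, zpow_mul, zpow_natCast, zpow_natCast, hc, one_zpow, mul_one] at h1
  exact h1

theorem e4_abgen_aux {p : ℕ} [hp : Fact p.Prime] {B : Type*} [CommGroup B] [Finite B]
    (hB : Nat.card B = p ^ 4) (hker : Nat.card {x : B // x ^ p = 1} = p ^ 3) :
    ∃ a b c : B, a ^ (p ^ 2) = 1 ∧ b ^ p = 1 ∧ c ^ p = 1 ∧
      ∀ i j k : ℕ, a ^ i * b ^ j * c ^ k = 1 → p ^ 2 ∣ i ∧ p ∣ j ∧ p ∣ k := by
  have hpp := hp.out
  have hp0 : 0 < p := hpp.pos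
  have hp2 : 2 ≤ p := hpp.two_le
  set φ : B →* B := powMonoidHom p with hφ
  have hφx : ∀ x : B, φ x = x ^ p := fun x => rfl
  have hkercard : Nat.card φ.ker = p ^ 3 := by
    rw [← hker]
    apply Nat.card_congr
    exact Equiv.subtypeEquivRight (fun x => by rw [MonoidHom.mem_ker, hφx])
  have hrange : Nat.card φ.range = p := by
    have h1 := Subgroup.card_mul_index φ.ker
    rw [Subgroup.index_ker, hkercard, hB] at h1
    have h2 : p ^ 3 * Nat.card φ.range = p ^ 3 * p := by rw [h1]; ring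
    exact Nat.eq_of_mul_eq_mul_left (by positivity) h2
  obtain ⟨a, ha⟩ : ∃ a : B, a ^ p ≠ 1 := by
    by_contra h
    push Not at h
    have h1 : Nat.card {x : B // x ^ p = 1} = Nat.card B :=
      Nat.card_congr (Equiv.subtypeUnivEquiv h)
    rw [hker, hB] at h1
    have := Nat.pow_right_injective hp2 h1
    omega
  have hap : (a ^ p) ^ p = 1 := by
    have hmem : a ^ p ∈ φ.range := ⟨a, rfl⟩
    have h1 : (⟨a ^ p, hmem⟩ : φ.range) ^ Nat.card φ.range = 1 := pow_card_eq_one'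
    rw [hrange] at h1
    have h2 := congrArg (fun z : φ.range => (z : B)) h1
    simpa using h2
  have hap2 : a ^ (p ^ 2) = 1 := by rw [pow_two, pow_mul]; exact hap
  have horda : orderOf a = p ^ 2 := by
    have := orderOf_eq_prime_pow (x := a) (p := p) (n := 1) (by simpa using ha) (by simpa using hap2)
    simpa using this
  -- the set Ω of elements of order dividing p
  set Om : Set B := {x | x ^ p = 1} with hOm
  have hOmcard : Nat.card Om = p ^ 3 := hker
  -- choose b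
  obtain ⟨b, hbOm, hbnot⟩ := e4_abgen_exists_not_range Om
    (fun i : Fin p => (a ^ p) ^ (i : ℕ)) (by
      rw [hOmcard, Nat.card_fin]
      calc p = p ^ 1 := (pow_one p).symm
        _ < p ^ 3 := Nat.pow_lt_pow_right hp2 (by norm_num))
  have hbp : b ^ p = 1 := hbOm
  have hb1 : ∀ m : ℤ, b ≠ (a ^ p) ^ m := by
    intro m hm
    obtain ⟨u, hu, hue⟩ := e4_abgen_zpow_mod p hp0 (a ^ p) hap m
    apply hbnot
    exact ⟨⟨u, hu⟩, by rw [hm, hue]⟩
  -- choose c
  obtain ⟨c, hcOm, hcnot⟩ := e4_abgen_exists_not_range Om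
    (fun ij : Fin p × Fin p => (a ^ p) ^ (ij.1 : ℕ) * b ^ (ij.2 : ℕ)) (by
      rw [hOmcard, Nat.card_prod, Nat.card_fin]
      calc p * p = p ^ 2 := (pow_two p).symm
        _ < p ^ 3 := Nat.pow_lt_pow_right hp2 (by norm_num))
  have hcp : c ^ p = 1 := hcOm
  have hc1 : ∀ m n : ℤ, c ≠ (a ^ p) ^ m * b ^ n := by
    intro m n hmn
    obtain ⟨u, hu, hue⟩ := e4_abgen_zpow_mod p hp0 (a ^ p) hap m
    obtain ⟨v, hv, hve⟩ := e4_abgen_zpow_mod p hp0 b hbp n
    apply hcnot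
    exact ⟨(⟨u, hu⟩, ⟨v, hv⟩), by rw [hmn, hue, hve]⟩
  refine ⟨a, b, c, hap2, hbp, hcp, ?_⟩
  intro i j k hijk
  -- step 1: p ∣ i
  have h1 : (a ^ i) ^ p = 1 := by
    have := congrArg (fun z => z ^ p) hijk
    simp only [mul_pow, one_pow] at this
    rw [← pow_mul b, ← pow_mul c, mul_comm j p, mul_comm k p, pow_mul b, pow_mul c, hbp, hcp,
      one_pow, one_pow, mul_one, mul_one] at this
    exact this
  have hpi : p ∣ i := by
    rw [← pow_mul] at h1
    have := orderOf_dvd_of_pow_eq_one h1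
    rw [horda, pow_two] at this
    exact Nat.dvd_of_mul_dvd_mul_right hp0 this
  obtain ⟨i', rfl⟩ := hpi
  have hai : a ^ (p * i') = (a ^ p) ^ (i' : ℤ) := by rw [zpow_natCast, pow_mul]
  -- step 2: p ∣ k
  have hpk : p ∣ k := by
    by_contra hk
    obtain ⟨u, hu⟩ := e4_abgen_root p hpp c hcp k hk
    have hck : c ^ k = ((a ^ p) ^ (i' : ℤ) * b ^ (j : ℤ))⁻¹ := by
      rw [eq_inv_iff_mul_eq_one, mul_comm, zpow_natCast b, ← hai]
      exact hijk
    apply hc1 (-(i' : ℤ) * u) (-(j : ℤ) * u)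
    rw [hu, hck, inv_zpow, mul_zpow, mul_inv, ← zpow_mul, ← zpow_mul, ← zpow_neg, ← zpow_neg]
    congr 2 <;> ring
  have hck1 : c ^ k = 1 := by
    obtain ⟨k', rfl⟩ := hpk
    rw [pow_mul, hcp, one_pow]
  rw [hck1, mul_one] at hijk
  -- step 3: p ∣ j
  have hpj : p ∣ j := by
    by_contra hj
    obtain ⟨u, hu⟩ := e4_abgen_root p hpp b hbp j hj
    have hbj : b ^ j = ((a ^ p) ^ (i' : ℤ))⁻¹ := by
      rw [eq_inv_iff_mul_eq_one, mul_comm, ← hai]
      exact hijk
    apply hb1 (-(i' : ℤ) * u)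
    rw [hu, hbj, inv_zpow, ← zpow_mul, ← zpow_neg]
    congr 1; ring
  have hbj1 : b ^ j = 1 := by
    obtain ⟨j', rfl⟩ := hpj
    rw [pow_mul, hbp, one_pow]
  rw [hbj1, mul_one] at hijk
  refine ⟨?_, hpj, hpk⟩
  rw [← horda]
  exact orderOf_dvd_of_pow_eq_one hijk

variable {p : ℕ} [hp : Fact p.Prime] {B : Type*} [Group B] [Finite B]

theorem exists_independent_of_abelian (hB : Nat.card B = p ^ 4) (hc : ∀ a b : B, a * b = b * a)
    (hker : Nat.card {x : B // x ^ p = 1} = p ^ 3) :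
    ∃ a b c : B, a ^ (p ^ 2) = 1 ∧ b ^ p = 1 ∧ c ^ p = 1 ∧
      ∀ i j k : ℕ, a ^ i * b ^ j * c ^ k = 1 → p ^ 2 ∣ i ∧ p ∣ j ∧ p ∣ k := by
  let _ : CommGroup B := { ‹Group B› with mul_comm := hc }
  exact e4_abgen_aux (p := p) (B := B) hB hker

end Cfsg.Agent.Helper8.E4
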