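import Mathlib
import Cfsg.Agent.Lib.E4.E4Defs

/-! S5188 piece E4-ABISO (helper8 design; see plans/S5188_plan.md): an abelian group of order `p^4` with independent
elements of orders dividing `p^2, p, p` is `C_{p^2} × C_p × C_p` (helper23). -/

set_option autoImplicit false

namespace Cfsg.Agent.Helper8.E4

open Subgroup

open scoped commutatorElement

variable {p : ℕ} [hp : Fact p.Prime] {B : Type*} [Group B] [Finite B]

/-- powers with exponent `ZMod.val` are additive when the base has order dividing `n` -/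
theorem e4_abiso_pow_val_add {n : ℕ} [NeZero n] (g : B) (hg : g ^ n = 1) (u v : ZMod n) :
    g ^ (u + v).val = g ^ u.val * g ^ v.val := by
  rw [ZMod.val_add, ← pow_add]
  exact (pow_eq_pow_mod (u.val + v.val) hg).symm

/-- `val = 0` from divisibility -/
theorem e4_abiso_eq_zero {n : ℕ} [NeZero n] (u : ZMod n) (h : n ∣ u.val) : u = 0 := by
  have h1 : u.val < n := ZMod.val_lt u
  have h2 : u.val = 0 := Nat.eq_zero_of_dvd_of_lt h h1
  exact (ZMod.val_eq_zero u).mp h2

theorem mulEquiv_of_independent (hB : Nat.card B = p ^ 4) (hc : ∀ a b : B, a * b = b * a)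
    (a b c : B) (ha : a ^ (p ^ 2) = 1) (hb : b ^ p = 1) (hcc : c ^ p = 1)
    (hind : ∀ i j k : ℕ, a ^ i * b ^ j * c ^ k = 1 → p ^ 2 ∣ i ∧ p ∣ j ∧ p ∣ k) :
    Nonempty (B ≃* Multiplicative (ZMod (p ^ 2) × ZMod p × ZMod p)) := by
  classical
  haveI : NeZero p := ⟨hp.out.ne_zero⟩
  haveI : NeZero (p ^ 2) := ⟨pow_ne_zero 2 hp.out.ne_zero⟩
  -- the homomorphism
  let f : Multiplicative (ZMod (p ^ 2) × ZMod p × ZMod p) →* B :=
    { toFun := fun x => a ^ (Multiplicative.toAdd x).1.val * b ^ (Multiplicative.toAdd x).2.1.val *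
        c ^ (Multiplicative.toAdd x).2.2.val
      map_one' := by
        simp
      map_mul' := by
        intro x y
        show a ^ ((Multiplicative.toAdd x).1 + (Multiplicative.toAdd y).1).val *
            b ^ ((Multiplicative.toAdd x).2.1 + (Multiplicative.toAdd y).2.1).val *
            c ^ ((Multiplicative.toAdd x).2.2 + (Multiplicative.toAdd y).2.2).val = _
        rw [e4_abiso_pow_val_add a ha, e4_abiso_pow_val_add b hb, e4_abiso_pow_val_add c hcc]
        -- rearrange in the commutative group
        set a1 := a ^ (Multiplicative.toAdd x).1.val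
        set a2 := a ^ (Multiplicative.toAdd y).1.val
        set b1 := b ^ (Multiplicative.toAdd x).2.1.val
        set b2 := b ^ (Multiplicative.toAdd y).2.1.val
        set c1 := c ^ (Multiplicative.toAdd x).2.2.val
        set c2 := c ^ (Multiplicative.toAdd y).2.2.val
        calc a1 * a2 * (b1 * b2) * (c1 * c2)
            = a1 * (a2 * b1) * b2 * (c1 * c2) := by group
          _ = a1 * (b1 * a2) * b2 * (c1 * c2) := by rw [hc a2 b1]
          _ = a1 * b1 * (a2 * b2 * c1) * c2 := by group
          _ = a1 * b1 * (c1 * (a2 * b2)) * c2 := by rw [hc (a2 * b2) c1]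
          _ = a1 * b1 * c1 * (a2 * b2 * c2) := by group }
  have hf : ∀ x, f x = a ^ (Multiplicative.toAdd x).1.val * b ^ (Multiplicative.toAdd x).2.1.val *
        c ^ (Multiplicative.toAdd x).2.2.val := fun x => rfl
  have hinj : Function.Injective f := by
    rw [injective_iff_map_eq_one]
    intro x hx
    rw [hf] at hx
    obtain ⟨h1, h2, h3⟩ := hind _ _ _ hx
    have e1 := e4_abiso_eq_zero _ h1
    have e2 := e4_abiso_eq_zero _ h2
    have e3 := e4_abiso_eq_zero _ h3
    have : Multiplicative.toAdd x = 0 := by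
      apply Prod.ext
      · exact e1
      · apply Prod.ext
        · exact e2
        · exact e3
    exact this
  have hcard : Nat.card (Multiplicative (ZMod (p ^ 2) × ZMod p × ZMod p)) = Nat.card B := by
    rw [hB]
    have h1 : Nat.card (Multiplicative (ZMod (p ^ 2) × ZMod p × ZMod p)) =
        Nat.card (ZMod (p ^ 2) × ZMod p × ZMod p) := Nat.card_congr Multiplicative.toAdd
    rw [h1, Nat.card_prod, Nat.card_prod, Nat.card_zmod, Nat.card_zmod]
    ring
  haveI : Finite (Multiplicative (ZMod (p ^ 2) × ZMod p × ZMod p)) :=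
    Nat.finite_of_card_ne_zero (by rw [hcard, hB]; exact pow_ne_zero 4 hp.out.ne_zero)
  have hbij : Function.Bijective f :=
    (Nat.bijective_iff_injective_and_card f).mpr ⟨hinj, hcard⟩
  exact ⟨(MulEquiv.ofBijective f hbij).symm⟩

end Cfsg.Agent.Helper8.E4
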