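import Mathlib
import Cfsg.Agent.Lib.E4.E4Defs

/-! S5188 piece E4-ABKER (helper8 design; see plans/S5188_plan.md); proved by helper27. -/

set_option autoImplicit false
set_option linter.unusedSectionVars false

namespace Cfsg.Agent.Helper8.E4

open Subgroup

open scoped commutatorElement

variable {p : ℕ} [hp : Fact p.Prime] {B : Type*} [Group B] [Finite B]

/-- the elements of order dividing `n` of a group with commuting elements, as a subgroup -/
def e4_abker_sub (B : Type*) [Group B] (hc : ∀ a b : B, a * b = b * a) (n : ℕ) : Subgroup B where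
  carrier := {x | x ^ n = 1}
  mul_mem' := by
    intro a b ha hb
    show (a * b) ^ n = 1
    rw [Commute.mul_pow (hc a b), ha, hb, one_mul]
  one_mem' := one_pow n
  inv_mem' := by
    intro a ha
    show a⁻¹ ^ n = 1
    rw [inv_pow, ha, inv_one]

theorem e4_abker_mem (hc : ∀ a b : B, a * b = b * a) (n : ℕ) (x : B) :
    x ∈ e4_abker_sub B hc n ↔ x ^ n = 1 := Iff.rfl

theorem e4_abker_card (hc : ∀ a b : B, a * b = b * a) (n : ℕ) :
    Nat.card {x : B // x ^ n = 1} = Nat.card ↥(e4_abker_sub B hc n) :=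
  Nat.card_congr (Equiv.subtypeEquivRight (fun x => (e4_abker_mem hc n x).symm))

theorem card_ker_abelian_cases (hB : Nat.card B = p ^ 4) (hc : ∀ a b : B, a * b = b * a) :
    (∀ x : B, x ^ p = 1) ∨ Nat.card {x : B // x ^ p = 1} = p ^ 3 ∨
      Nat.card {x : B // x ^ p = 1} ≤ p ^ 2 := by
  rw [e4_abker_card hc p]
  have hdvd : Nat.card ↥(e4_abker_sub B hc p) ∣ p ^ 4 := by
    rw [← hB]
    exact Subgroup.card_subgroup_dvd_card _
  obtain ⟨k, hk4, hk⟩ := (Nat.dvd_prime_pow hp.out).1 hdvd
  have hk' : k = 4 ∨ k = 3 ∨ k ≤ 2 := by omega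
  rcases hk' with h | h | h
  · left
    have htop : e4_abker_sub B hc p = ⊤ := by
      apply Subgroup.eq_top_of_card_eq
      rw [hk, hB, h]
    intro x
    have hx : x ∈ e4_abker_sub B hc p := by rw [htop]; exact Subgroup.mem_top x
    exact hx
  · right; left
    rw [hk, h]
  · right; right
    rw [hk]
    exact Nat.pow_le_pow_right hp.out.pos h

end Cfsg.Agent.Helper8.E4
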