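import Mathlib
import Cfsg.Agent.Lib.E4.E4Defs
import Cfsg.Agent.Lib.Helper22.ClassTwo

/-! S5188 piece E4-ABRANK (helper8 design; see plans/S5188_plan.md); proved by helper27. -/

set_option autoImplicit false
set_option linter.unusedSectionVars false

namespace Cfsg.Agent.Helper8.E4

open Subgroup

open scoped commutatorElement

variable {p : ℕ} [hp : Fact p.Prime] {B : Type*} [Group B] [Finite B]

/-- the `n`-th power map of a group with commuting elements, as a homomorphism -/
def e4_abrank_pow (B : Type*) [Group B] (hc : ∀ a b : B, a * b = b * a) (n : ℕ) : B →* B where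
  toFun x := x ^ n
  map_one' := one_pow n
  map_mul' a b := Commute.mul_pow (hc a b) n

theorem e4_abrank_pow_apply (hc : ∀ a b : B, a * b = b * a) (n : ℕ) (x : B) :
    e4_abrank_pow B hc n x = x ^ n := rfl

theorem e4_abrank_card_ker (hc : ∀ a b : B, a * b = b * a) (n : ℕ) :
    Nat.card {x : B // x ^ n = 1} = Nat.card ↥(e4_abrank_pow B hc n).ker :=
  Nat.card_congr (Equiv.subtypeEquivRight (fun x => by
    rw [MonoidHom.mem_ker, e4_abrank_pow_apply]))

theorem frattini_index_le_of_abelian (hB : Nat.card B = p ^ 4) (hc : ∀ a b : B, a * b = b * a)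
    (hker : Nat.card {x : B // x ^ p = 1} ≤ p ^ 2) : (frattini B).index ≤ p ^ 2 := by
  have hP : IsPGroup p B := IsPGroup.of_card hB
  have hrange : (e4_abrank_pow B hc p).range ≤ frattini B := by
    rintro _ ⟨x, rfl⟩
    rw [e4_abrank_pow_apply]
    exact Cfsg.Agent.Helper22.pow_prime_mem_frattini hP x
  have h1 : (frattini B).index ∣ (e4_abrank_pow B hc p).range.index :=
    Subgroup.index_dvd_of_le hrange
  -- index of the range = card of the kernel
  have h2 : Nat.card ↥(e4_abrank_pow B hc p).ker * (e4_abrank_pow B hc p).ker.index = Nat.card B :=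
    Subgroup.card_mul_index _
  have h3 : Nat.card ↥(e4_abrank_pow B hc p).range * (e4_abrank_pow B hc p).range.index
      = Nat.card B := Subgroup.card_mul_index _
  have h4 : (e4_abrank_pow B hc p).ker.index = Nat.card ↥(e4_abrank_pow B hc p).range :=
    Subgroup.index_ker _
  have hpos : 0 < Nat.card ↥(e4_abrank_pow B hc p).range := Nat.card_pos
  have h5 : (e4_abrank_pow B hc p).range.index = Nat.card ↥(e4_abrank_pow B hc p).ker := by
    rw [h4] at h2
    have : Nat.card ↥(e4_abrank_pow B hc p).range * (e4_abrank_pow B hc p).range.index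
        = Nat.card ↥(e4_abrank_pow B hc p).range * Nat.card ↥(e4_abrank_pow B hc p).ker := by
      rw [h3, ← h2, mul_comm]
    exact Nat.eq_of_mul_eq_mul_left hpos this
  rw [h5, ← e4_abrank_card_ker hc p] at h1
  have hpos' : 0 < Nat.card {x : B // x ^ p = 1} := by
    have : Nonempty {x : B // x ^ p = 1} := ⟨⟨1, one_pow p⟩⟩
    exact Nat.card_pos
  exact (Nat.le_of_dvd hpos' h1).trans hker

end Cfsg.Agent.Helper8.E4
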