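import Mathlib
import Cfsg.Agent.Lib.E4.E4Defs

/-! S5188 piece E4-CENTER (helper8 design; see plans/S5188_plan.md). -/

set_option autoImplicit false

namespace Cfsg.Agent.Helper8.E4

open Subgroup

open scoped commutatorElement

variable {p : ℕ} [hp : Fact p.Prime] {B : Type*} [Group B] [Finite B]

theorem card_center_cases (hB : Nat.card B = p ^ 4) (hna : ¬ ∀ a b : B, a * b = b * a) :
    Nat.card (center B) = p ∨ Nat.card (center B) = p ^ 2 := by
  have hpp : p.Prime := hp.out
  have hPG : IsPGroup p B := IsPGroup.of_card hB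
  haveI : Nontrivial B := by
    apply (Finite.one_lt_card_iff_nontrivial).1
    rw [hB]
    exact Nat.one_lt_pow (by norm_num) hpp.one_lt
  have hdvd : Nat.card (center B) ∣ p ^ 4 := hB ▸ Subgroup.card_subgroup_dvd_card (center B)
  obtain ⟨k, hk4, hk⟩ := (Nat.dvd_prime_pow hpp).1 hdvd
  have hmul : Nat.card (B ⧸ center B) * Nat.card (center B) = p ^ 4 := by
    rw [← hB]
    exact (Subgroup.card_eq_card_quotient_mul_card_subgroup (center B)).symm
  have hk0 : k ≠ 0 := by
    intro h0
    rw [h0, pow_zero] at hk
    haveI : Nontrivial (center B) := hPG.center_nontrivial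
    have : 1 < Nat.card (center B) := Finite.one_lt_card
    omega
  have hk4' : k ≠ 4 := by
    intro h4
    apply hna
    have htop : center B = ⊤ := by
      apply Subgroup.eq_top_of_card_eq
      rw [hk, h4, hB]
    intro a b
    have hb : b ∈ center B := htop ▸ Subgroup.mem_top b
    exact (Subgroup.mem_center_iff.1 hb a)
  have hk3 : k ≠ 3 := by
    intro h3
    apply hna
    rw [hk, h3] at hmul
    have hq : Nat.card (B ⧸ center B) = p := by
      have hpos : 0 < p ^ 3 := pow_pos hpp.pos 3
      have : Nat.card (B ⧸ center B) * p ^ 3 = p * p ^ 3 := by rw [hmul]; ring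
      exact Nat.eq_of_mul_eq_mul_right hpos this
    haveI : IsCyclic (B ⧸ center B) := isCyclic_of_prime_card hq
    exact commutative_of_cyclic_center_quotient (QuotientGroup.mk' (center B))
      (by rw [QuotientGroup.ker_mk'])
  have hk12 : k = 1 ∨ k = 2 := by omega
  rcases hk12 with h | h
  · left; rw [hk, h, pow_one]
  · right; rw [hk, h]

end Cfsg.Agent.Helper8.E4
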