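import Mathlib
import Cfsg.Agent.Lib.E4.E4Defs

/-! S5188 piece E4-PRODISO (helper8 design; see plans/S5188_plan.md): a central element of order `p`
outside a subgroup of index `p` splits off a direct factor. -/

set_option autoImplicit false

namespace Cfsg.Agent.Helper8.E4

open Subgroup

open scoped commutatorElement

variable {p : ℕ} [hp : Fact p.Prime] {B : Type*} [Group B] [Finite B]

/-- the homomorphism `i ↦ c ^ i` from `Multiplicative (ZMod p)` for an element with `c ^ p = 1` -/
noncomputable def e4_prodiso_psi (c : B) (hcp : c ^ p = 1) : Multiplicative (ZMod p) →* B :=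
  MonoidHom.mk' (fun i => c ^ (Multiplicative.toAdd i).val) (by
    intro a b
    show c ^ (Multiplicative.toAdd (a * b)).val = _
    rw [toAdd_mul, ZMod.val_add, ← pow_add]
    exact (pow_eq_pow_mod _ hcp).symm)

theorem e4_prodiso_psi_apply (c : B) (hcp : c ^ p = 1) (i : Multiplicative (ZMod p)) :
    e4_prodiso_psi c hcp i = c ^ (Multiplicative.toAdd i).val := rfl

theorem mulEquiv_prod_of_central (E : Subgroup B) (c : B) (hc : c ∈ center B) (hcp : c ^ p = 1)
    (hcE : c ∉ E) (hcard : Nat.card E * p = Nat.card B) :
    Nonempty (B ≃* ↥E × Multiplicative (ZMod p)) := by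
  have hcomm : ∀ (m : ↥E) (n : Multiplicative (ZMod p)),
      Commute (E.subtype m) (e4_prodiso_psi c hcp n) := by
    intro m n
    rw [e4_prodiso_psi_apply]
    have h1 : Commute (c ^ (Multiplicative.toAdd n).val) (m : B) := by
      apply Commute.pow_left
      exact (Subgroup.mem_center_iff.mp hc (m : B)).symm
    exact h1.symm
  let φ : ↥E × Multiplicative (ZMod p) →* B :=
    MonoidHom.noncommCoprod E.subtype (e4_prodiso_psi c hcp) hcomm
  have hφ : ∀ x : ↥E × Multiplicative (ZMod p),
      φ x = (x.1 : B) * c ^ (Multiplicative.toAdd x.2).val := by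
    intro x
    rfl
  have hinj : Function.Injective φ := by
    rw [injective_iff_map_eq_one]
    rintro ⟨e, i⟩ h
    rw [hφ] at h
    simp only at h
    have hci : c ^ (Multiplicative.toAdd i).val ∈ E := by
      have : c ^ (Multiplicative.toAdd i).val = (e : B)⁻¹ := by
        rw [eq_inv_iff_mul_eq_one, mul_comm] at *
        have h2 : Commute (c ^ (Multiplicative.toAdd i).val) (e : B) := by
          apply Commute.pow_left
          exact (Subgroup.mem_center_iff.mp hc (e : B)).symm
        rw [h2.eq]
        exact h
      rw [this]
      exact E.inv_mem e.2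
    have hi0 : Multiplicative.toAdd i = 0 := by
      by_contra hne
      have hv : (Multiplicative.toAdd i).val ≠ 0 := by
        intro h0
        exact hne ((ZMod.val_eq_zero _).mp h0)
      have hlt : (Multiplicative.toAdd i).val < p := ZMod.val_lt _
      have hcop : Nat.Coprime (Multiplicative.toAdd i).val p := by
        rw [Nat.coprime_comm]
        apply (Nat.Prime.coprime_iff_not_dvd hp.out).mpr
        intro hd
        exact hv (Nat.eq_zero_of_dvd_of_lt hd hlt)
      obtain ⟨j, -, hj⟩ := Nat.exists_mul_mod_eq_one_of_coprime hcop hp.out.one_lt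
      · apply hcE
        have h3 : c = (c ^ (Multiplicative.toAdd i).val) ^ j := by
          rw [← pow_mul, pow_eq_pow_mod _ hcp, hj, pow_one]
        rw [h3]
        exact E.pow_mem hci j
    have hi1 : i = 1 := by
      apply Multiplicative.toAdd.injective
      rw [hi0]
      rfl
    subst hi1
    have he : (e : B) = 1 := by
      have : (Multiplicative.toAdd (1 : Multiplicative (ZMod p))).val = 0 := by
        show (0 : ZMod p).val = 0
        exact ZMod.val_zero
      rw [this, pow_zero, mul_one] at h
      exact h
    have he' : e = 1 := Subtype.ext he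
    rw [he']
    rfl
  have hcardeq : Nat.card (↥E × Multiplicative (ZMod p)) = Nat.card B := by
    rw [Nat.card_prod, ← hcard]
    congr 1
    rw [Nat.card_congr Multiplicative.toAdd, Nat.card_zmod]
  have hbij : Function.Bijective φ :=
    (Nat.bijective_iff_injective_and_card φ).mpr ⟨hinj, hcardeq⟩
  exact ⟨(MulEquiv.ofBijective φ hbij).symm⟩

end Cfsg.Agent.Helper8.E4
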