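import Mathlib
import Cfsg.Agent.Lib.E4.E4Defs

/-! S5188 piece E4-Z2DER (helper8 design; see plans/S5188_plan.md). -/

set_option autoImplicit false
set_option linter.unusedSectionVars false
set_option linter.deprecated false

namespace Cfsg.Agent.Helper8.E4

open Subgroup

open scoped commutatorElement

variable {p : ℕ} [hp : Fact p.Prime] {B : Type*} [Group B] [Finite B]

theorem e4_z2der_comm_mem (hB : Nat.card B = p ^ 4) (hZ : Nat.card (center B) = p ^ 2) (u v : B) :
    ⁅u, v⁆ ∈ center B := by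
  have hpp := hp.out
  have hq : Nat.card (B ⧸ center B) = p ^ 2 := by
    have h1 := Subgroup.card_eq_card_quotient_mul_card_subgroup (center B)
    rw [hB, hZ] at h1
    have h2 : p ^ 2 * p ^ 2 = Nat.card (B ⧸ center B) * p ^ 2 := by rw [← h1]; ring
    exact (Nat.eq_of_mul_eq_mul_right (pow_pos hpp.pos 2) h2).symm
  have hcomm := IsPGroup.commutative_of_card_eq_prime_sq hq
  rw [← QuotientGroup.eq_one_iff]
  have h3 : ((⁅u, v⁆ : B) : B ⧸ center B) = ⁅(u : B ⧸ center B), (v : B ⧸ center B)⁆ :=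
    map_commutatorElement (QuotientGroup.mk' (center B)) u v
  rw [h3, commutatorElement_eq_one_iff_commute]
  exact hcomm _ _

/-- in a group whose commutators are central, `g ↦ ⁅a, g⁆` is a homomorphism -/
def e4_z2der_hom (hc : ∀ u v : B, ⁅u, v⁆ ∈ center B) (a : B) : B →* B where
  toFun g := ⁅a, g⁆
  map_one' := commutatorElement_one_right a
  map_mul' g h := by
    have h1 : ⁅a, g * h⁆ = ⁅a, g⁆ * (g * ⁅a, h⁆ * g⁻¹) := by
      simp only [commutatorElement_def]; group
    have h2 : g * ⁅a, h⁆ * g⁻¹ = ⁅a, h⁆ := by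
      have := (Subgroup.mem_center_iff.mp (hc a h)) g
      rw [this, mul_inv_cancel_right]
    rw [h1, h2]

theorem e4_z2der_hom_apply (hc : ∀ u v : B, ⁅u, v⁆ ∈ center B) (a g : B) :
    e4_z2der_hom hc a g = ⁅a, g⁆ := rfl

theorem e4_z2der_mem_ker (hc : ∀ u v : B, ⁅u, v⁆ ∈ center B) (a g : B) :
    g ∈ (e4_z2der_hom hc a).ker ↔ a * g = g * a := by
  rw [MonoidHom.mem_ker, e4_z2der_hom_apply, commutatorElement_eq_one_iff_commute]
  exact Iff.rfl

/-- the image of `g ↦ ⁅a, g⁆` has order `p` when `a` is not central -/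
theorem e4_z2der_card_range (hB : Nat.card B = p ^ 4) (hZ : Nat.card (center B) = p ^ 2)
    (hc : ∀ u v : B, ⁅u, v⁆ ∈ center B) (a : B) (ha : a ∉ center B) :
    Nat.card (e4_z2der_hom hc a).range = p := by
  have hpp := hp.out
  set K := (e4_z2der_hom hc a).ker with hK
  have hZK : center B ≤ K := by
    intro z hz
    rw [hK, e4_z2der_mem_ker]
    exact (Subgroup.mem_center_iff.mp hz a)
  have haK : a ∈ K := by rw [hK, e4_z2der_mem_ker]
  have hKtop : K ≠ ⊤ := by
    intro htop
    apply ha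
    rw [Subgroup.mem_center_iff]
    intro g
    have : g ∈ K := by rw [htop]; exact Subgroup.mem_top g
    rw [hK, e4_z2der_mem_ker] at this
    exact this.symm
  have hd1 : Nat.card (center B) ∣ Nat.card K := Subgroup.card_dvd_of_le hZK
  have hd2 : Nat.card K ∣ Nat.card B := Subgroup.card_subgroup_dvd_card K
  rw [hB] at hd2
  rw [hZ] at hd1
  obtain ⟨k, hk4, hk⟩ := (Nat.dvd_prime_pow hpp).1 hd2
  have hk2 : 2 ≤ k := by
    rw [hk] at hd1
    exact (Nat.pow_dvd_pow_iff_le_right hpp.one_lt).1 hd1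
  have hkne2 : k ≠ 2 := by
    intro h2
    have hcard : Nat.card (center B) = Nat.card K := by rw [hZ, hk, h2]
    have heq : center B = K := Subgroup.eq_of_le_of_card_ge hZK hcard.ge
    apply ha
    rw [heq]
    exact haK
  have hkne4 : k ≠ 4 := by
    intro h4
    apply hKtop
    rw [← Subgroup.card_eq_iff_eq_top, hk, h4, hB]
  have hk3 : k = 3 := by omega
  have h1 := Subgroup.card_mul_index K
  rw [Subgroup.index_ker, hk, hk3, hB] at h1
  have h2 : p ^ 3 * Nat.card (e4_z2der_hom hc a).range = p ^ 3 * p := by rw [h1]; ring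
  exact Nat.eq_of_mul_eq_mul_left (pow_pos hpp.pos 3) h2

/-- two subgroups of prime order sharing a nontrivial element are equal -/
theorem e4_z2der_eq_of_prime_card {H K : Subgroup B} (hH : Nat.card H = p) (hK : Nat.card K = p)
    (c : B) (hcH : c ∈ H) (hcK : c ∈ K) (hc1 : c ≠ 1) : H = K := by
  have hpp := hp.out
  have hd : Nat.card (H ⊓ K : Subgroup B) ∣ p := by
    rw [← hH]
    exact Subgroup.card_dvd_of_le inf_le_left
  have hne : Nat.card (H ⊓ K : Subgroup B) ≠ 1 := by
    intro h1
    rw [Subgroup.card_eq_one] at h1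
    have : c ∈ (H ⊓ K : Subgroup B) := ⟨hcH, hcK⟩
    rw [h1, Subgroup.mem_bot] at this
    exact hc1 this
  have hp' : Nat.card (H ⊓ K : Subgroup B) = p := by
    rcases (Nat.dvd_prime hpp).1 hd with h | h
    · exact absurd h hne
    · exact h
  have h1 : (H ⊓ K : Subgroup B) = H :=
    Subgroup.eq_of_le_of_card_ge inf_le_left (by rw [hp', hH])
  have h2 : (H ⊓ K : Subgroup B) = K :=
    Subgroup.eq_of_le_of_card_ge inf_le_right (by rw [hp', hK])
  rw [← h1, h2]

/-- the ranges of `⁅a, ·⁆` and `⁅b, ·⁆` agree when `⁅a, b⁆ ≠ 1` -/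
theorem e4_z2der_range_eq (hB : Nat.card B = p ^ 4) (hZ : Nat.card (center B) = p ^ 2)
    (hc : ∀ u v : B, ⁅u, v⁆ ∈ center B) (a b : B) (hab : ⁅a, b⁆ ≠ 1) :
    (e4_z2der_hom hc a).range = (e4_z2der_hom hc b).range := by
  have haZ : a ∉ center B := by
    intro ha
    apply hab
    rw [commutatorElement_eq_one_iff_commute]
    exact ((Subgroup.mem_center_iff.mp ha) b).symm
  have hbZ : b ∉ center B := by
    intro hb
    apply hab
    rw [commutatorElement_eq_one_iff_commute]
    exact (Subgroup.mem_center_iff.mp hb a)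
  have hIa := e4_z2der_card_range hB hZ hc a haZ
  have hIb := e4_z2der_card_range hB hZ hc b hbZ
  apply e4_z2der_eq_of_prime_card hIa hIb ⁅a, b⁆ ⟨b, rfl⟩ _ hab
  have h1 : ⁅b, a⁆ ∈ (e4_z2der_hom hc b).range := ⟨a, rfl⟩
  have h2 := (e4_z2der_hom hc b).range.inv_mem h1
  rwa [commutatorElement_inv] at h2

/-- the common centralizer of two non-commuting elements is the centre -/
theorem e4_z2der_mem_center_of_comm (hB : Nat.card B = p ^ 4) (hZ : Nat.card (center B) = p ^ 2)
    (hc : ∀ u v : B, ⁅u, v⁆ ∈ center B) (x y : B) (hxy : ⁅x, y⁆ ≠ 1) (a : B)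
    (hax : x * a = a * x) (hay : y * a = a * y) : a ∈ center B := by
  have hpp := hp.out
  have hxZ : x ∉ center B := by
    intro hx
    apply hxy
    rw [commutatorElement_eq_one_iff_commute]
    exact ((Subgroup.mem_center_iff.mp hx) y).symm
  set Kx := (e4_z2der_hom hc x).ker with hKx
  set Ky := (e4_z2der_hom hc y).ker with hKy
  have haKx : a ∈ Kx := (e4_z2der_mem_ker hc x a).2 hax
  have haKy : a ∈ Ky := (e4_z2der_mem_ker hc y a).2 hay
  have hZKx : center B ≤ Kx ⊓ Ky := by
    intro z hz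
    exact Subgroup.mem_inf.2 ⟨(e4_z2der_mem_ker hc x z).2 (Subgroup.mem_center_iff.mp hz x),
      (e4_z2der_mem_ker hc y z).2 (Subgroup.mem_center_iff.mp hz y)⟩
  have hxKx : x ∈ Kx := (e4_z2der_mem_ker hc x x).2 rfl
  have hxKy : x ∉ Ky := by
    intro h
    have h1 := (e4_z2der_mem_ker hc y x).1 h
    apply hxy
    rw [commutatorElement_eq_one_iff_commute]
    exact h1.symm
  have hKxcard : Nat.card Kx = p ^ 3 := by
    have h1 := Subgroup.card_mul_index Kx
    rw [hKx, Subgroup.index_ker, e4_z2der_card_range hB hZ hc x hxZ, hB] at h1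
    have h2 : Nat.card (e4_z2der_hom hc x).ker * p = p ^ 3 * p := by rw [h1]; ring
    exact Nat.eq_of_mul_eq_mul_right hpp.pos h2
  have hlt : (Kx ⊓ Ky : Subgroup B) ≠ Kx := by
    intro h
    apply hxKy
    have : x ∈ (Kx ⊓ Ky : Subgroup B) := by rw [h]; exact hxKx
    exact (Subgroup.mem_inf.1 this).2
  have hd : Nat.card (Kx ⊓ Ky : Subgroup B) ∣ p ^ 3 := by
    rw [← hKxcard]
    exact Subgroup.card_dvd_of_le inf_le_left
  obtain ⟨k, hk3, hk⟩ := (Nat.dvd_prime_pow hpp).1 hd
  have hkne3 : k ≠ 3 := by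
    intro h3
    apply hlt
    exact Subgroup.eq_of_le_of_card_ge inf_le_left (by rw [hk, h3, hKxcard])
  have hd2 : p ^ 2 ∣ p ^ k := by
    rw [← hk, ← hZ]
    exact Subgroup.card_dvd_of_le hZKx
  have hk2 : 2 ≤ k := (Nat.pow_dvd_pow_iff_le_right hpp.one_lt).1 hd2
  have hk2' : k = 2 := by omega
  have heq : center B = (Kx ⊓ Ky : Subgroup B) :=
    Subgroup.eq_of_le_of_card_ge hZKx (by rw [hk, hk2', hZ])
  rw [heq]
  exact Subgroup.mem_inf.2 ⟨haKx, haKy⟩

theorem card_commutator_of_center_sq (hB : Nat.card B = p ^ 4) (hZ : Nat.card (center B) = p ^ 2) :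
    commutator B ≤ center B ∧ Nat.card (commutator B) = p := by
  have hpp := hp.out
  have hc : ∀ u v : B, ⁅u, v⁆ ∈ center B := e4_z2der_comm_mem hB hZ
  have hle : commutator B ≤ center B := by
    rw [commutator_def, Subgroup.commutator_le]
    intro u _ v _
    exact hc u v
  refine ⟨hle, ?_⟩
  have hZtop : center B ≠ ⊤ := by
    intro htop
    have h4 : Nat.card (center B) = p ^ 4 := by rw [htop, Subgroup.card_top, hB]
    rw [hZ] at h4
    exact absurd (Nat.pow_right_injective hpp.two_le h4) (by norm_num)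
  obtain ⟨x, hx⟩ : ∃ x : B, x ∉ center B := by
    by_contra hcon
    push Not at hcon
    exact hZtop (eq_top_iff.mpr fun g _ => hcon g)
  obtain ⟨y, hxy⟩ : ∃ y : B, ⁅x, y⁆ ≠ 1 := by
    by_contra hcon
    push Not at hcon
    apply hx
    rw [Subgroup.mem_center_iff]
    intro g
    have := hcon g
    rw [commutatorElement_eq_one_iff_commute] at this
    exact this.eq.symm
  have hyx : ⁅y, x⁆ ≠ 1 := by
    intro h
    apply hxy
    rw [← commutatorElement_inv, h, inv_one]
  set N := (e4_z2der_hom hc x).range with hN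
  have hNcard : Nat.card N = p := e4_z2der_card_range hB hZ hc x hx
  have hcN : ⁅x, y⁆ ∈ N := ⟨y, rfl⟩
  have hyN : (e4_z2der_hom hc y).range = N := e4_z2der_range_eq hB hZ hc y x hyx
  -- every commutator lies in `N`
  have hall : ∀ a g : B, ⁅a, g⁆ ∈ N := by
    intro a g
    by_cases hax : ⁅a, x⁆ = 1
    · by_cases hay : ⁅a, y⁆ = 1
      · have haZ : a ∈ center B := by
          apply e4_z2der_mem_center_of_comm hB hZ hc x y hxy a
          · rw [commutatorElement_eq_one_iff_commute] at hax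
            exact hax.eq.symm
          · rw [commutatorElement_eq_one_iff_commute] at hay
            exact hay.eq.symm
        have : ⁅a, g⁆ = 1 := by
          rw [commutatorElement_eq_one_iff_commute]
          exact ((Subgroup.mem_center_iff.mp haZ) g).symm
        rw [this]
        exact N.one_mem
      · have h1 : (e4_z2der_hom hc a).range = N := by
          rw [e4_z2der_range_eq hB hZ hc a y hay, hyN]
        rw [← h1]
        exact ⟨g, rfl⟩
    · have h1 : (e4_z2der_hom hc a).range = N := e4_z2der_range_eq hB hZ hc a x hax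
      rw [← h1]
      exact ⟨g, rfl⟩
  have hBN : commutator B ≤ N := by
    rw [commutator_def, Subgroup.commutator_le]
    intro u _ v _
    exact hall u v
  have hd : Nat.card (commutator B) ∣ p := by
    rw [← hNcard]
    exact Subgroup.card_dvd_of_le hBN
  rcases (Nat.dvd_prime hpp).1 hd with h | h
  · exfalso
    rw [Subgroup.card_eq_one] at h
    apply hxy
    have hmem : ⁅x, y⁆ ∈ commutator B := by
      rw [commutator_def]
      exact Subgroup.commutator_mem_commutator (Subgroup.mem_top x) (Subgroup.mem_top y)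
    rw [h, Subgroup.mem_bot] at hmem
    exact hmem
  · exact h

end Cfsg.Agent.Helper8.E4
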