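import Mathlib
import Cfsg.Agent.Lib.E4.E4Defs
import Cfsg.Agent.Lib.E4.E4Z2DER
import Cfsg.Agent.Lib.Helper22.MaxClass

/-! S5188 piece E4-SPLIT (helper8 design; see plans/S5188_plan.md). -/

set_option autoImplicit false
set_option linter.unusedSectionVars false
set_option linter.deprecated false

namespace Cfsg.Agent.Helper8.E4

open Subgroup

open scoped commutatorElement

variable {p : ℕ} [hp : Fact p.Prime] {B : Type*} [Group B] [Finite B]

/-- in a commutative group, two elements killed by `p` generate a subgroup of order at most `p^2` -/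
theorem e4_split_card_closure_pair {A : Type*} [CommGroup A] [Finite A] (a b : A) (n : ℕ) (hn : 0 < n)
    (ha : a ^ n = 1) (hb : b ^ n = 1) :
    Nat.card (closure ({a, b} : Set A)) ≤ n * n := by
  classical
  -- surjection from Fin n × Fin n
  let φ : Fin n × Fin n → closure ({a, b} : Set A) := fun ij =>
    ⟨a ^ (ij.1 : ℕ) * b ^ (ij.2 : ℕ),
      mul_mem (pow_mem (subset_closure (by simp)) _) (pow_mem (subset_closure (by simp)) _)⟩
  have hsurj : Function.Surjective φ := by
    rintro ⟨g, hg⟩
    have key : ∃ i j : ℕ, g = a ^ i * b ^ j := by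
      induction hg using closure_induction with
      | mem x hx =>
        rcases hx with rfl | hx
        · exact ⟨1, 0, by simp⟩
        · rw [Set.mem_singleton_iff] at hx; subst hx; exact ⟨0, 1, by simp⟩
      | one => exact ⟨0, 0, by simp⟩
      | mul x y _ _ hx hy =>
        obtain ⟨i, j, rfl⟩ := hx
        obtain ⟨k, l, rfl⟩ := hy
        refine ⟨i + k, j + l, ?_⟩
        rw [pow_add, pow_add]
        exact mul_mul_mul_comm _ _ _ _
      | inv x _ hx =>
        obtain ⟨i, j, rfl⟩ := hx
        refine ⟨i * (n - 1), j * (n - 1), ?_⟩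
        have hai : (a ^ i)⁻¹ = a ^ (i * (n - 1)) := by
          rw [inv_eq_iff_mul_eq_one, ← pow_add]
          have : i + i * (n - 1) = n * i := by
            obtain ⟨m, rfl⟩ : ∃ m, n = m + 1 := ⟨n - 1, by omega⟩
            simp only [Nat.add_sub_cancel]; ring
          rw [this, pow_mul, ha, one_pow]
        have hbj : (b ^ j)⁻¹ = b ^ (j * (n - 1)) := by
          rw [inv_eq_iff_mul_eq_one, ← pow_add]
          have : j + j * (n - 1) = n * j := by
            obtain ⟨m, rfl⟩ : ∃ m, n = m + 1 := ⟨n - 1, by omega⟩
            simp only [Nat.add_sub_cancel]; ring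
          rw [this, pow_mul, hb, one_pow]
        rw [mul_inv, hai, hbj]
    obtain ⟨i, j, hij⟩ := key
    refine ⟨(⟨i % n, Nat.mod_lt _ hn⟩, ⟨j % n, Nat.mod_lt _ hn⟩), ?_⟩
    apply Subtype.ext
    show a ^ (i % n) * b ^ (j % n) = g
    have h1 : a ^ (i % n) = a ^ i := by
      conv_rhs => rw [← Nat.mod_add_div i n, pow_add, pow_mul, ha, one_pow, mul_one]
    have h2 : b ^ (j % n) = b ^ j := by
      conv_rhs => rw [← Nat.mod_add_div j n, pow_add, pow_mul, hb, one_pow, mul_one]
    rw [h1, h2, hij]
  have := Nat.card_le_card_of_surjective φ hsurj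
  rwa [Nat.card_prod, Nat.card_fin] at this

theorem exists_split (hB : Nat.card B = p ^ 4) (hZ : Nat.card (center B) = p ^ 2) (hel : ∀ z ∈ center B, z ^ p = 1)
    (hsq : ∀ x : B, x ^ p ∈ commutator B) :
    ∃ (E : Subgroup B) (c : B), Nat.card E = p ^ 3 ∧ (¬ ∀ a ∈ E, ∀ b ∈ E, a * b = b * a) ∧
      c ∈ center B ∧ c ^ p = 1 ∧ c ∉ E := by
  classical
  have hpp := hp.out
  obtain ⟨hNZ, hN⟩ := card_commutator_of_center_sq (p := p) hB hZ
  -- a non-central element
  have hZne : ∃ x : B, x ∉ center B := by
    by_contra h
    push Not at h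
    have htop : center B = ⊤ := eq_top_iff.2 (fun g _ => h g)
    rw [htop, Subgroup.card_top, hB] at hZ
    exact absurd (Nat.pow_right_injective hpp.two_le hZ) (by norm_num)
  obtain ⟨x, hx⟩ := hZne
  have hy : ∃ y : B, y * x ≠ x * y := by
    by_contra h
    push Not at h
    exact hx (Subgroup.mem_center_iff.2 h)
  obtain ⟨y, hxy⟩ := hy
  set E : Subgroup B := closure ({x, y} : Set B) with hE
  have hxE : x ∈ E := subset_closure (by simp)
  have hyE : y ∈ E := subset_closure (by simp)
  have hnab : ¬ ∀ a ∈ E, ∀ b ∈ E, a * b = b * a := fun h => hxy (h y hyE x hxE)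
  -- E is a p-group
  have hBp : IsPGroup p B := IsPGroup.of_card hB
  have hEp : IsPGroup p E := hBp.to_subgroup E
  obtain ⟨k, hk⟩ := (IsPGroup.iff_card).1 hEp
  -- lower bound
  have hk3 : 3 ≤ k := by
    by_contra hlt
    apply hnab
    have hcomm : ∀ u v : E, u * v = v * u := by
      rcases (by omega : k = 0 ∨ k = 1 ∨ k = 2) with h | h | h
      · rw [h, pow_zero] at hk
        haveI : Subsingleton E := (Nat.card_eq_one_iff_unique.1 hk).1
        intro u v; rw [Subsingleton.elim u v]
      · rw [h, pow_one] at hk
        haveI : IsCyclic E := isCyclic_of_prime_card hk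
        intro u v
        exact (IsCyclic.commGroup (α := E)).mul_comm u v
      · rw [h] at hk
        intro u v
        exact IsPGroup.commutative_of_card_eq_prime_sq hk u v
    intro a ha b hb
    have := hcomm ⟨a, ha⟩ ⟨b, hb⟩
    exact congrArg Subtype.val this
  -- upper bound through the abelianization
  have hcardE : Nat.card E ≤ p ^ 3 := by
    let f : B →* Abelianization B := Abelianization.of
    have hker : f.ker = commutator B := Abelianization.ker_of B
    haveI : Finite (Abelianization B) := by
      unfold Abelianization; infer_instance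
    have hmap : E.map f = closure ({f x, f y} : Set (Abelianization B)) := by
      rw [hE, MonoidHom.map_closure]
      congr 1
      ext z
      simp [Set.image_pair]
    have hfx : f x ^ p = 1 := by
      rw [← map_pow]
      exact (MonoidHom.mem_ker).1 (hker ▸ hsq x)
    have hfy : f y ^ p = 1 := by
      rw [← map_pow]
      exact (MonoidHom.mem_ker).1 (hker ▸ hsq y)
    have h1 : Nat.card (E.map f) ≤ p * p := by
      rw [hmap]
      exact e4_split_card_closure_pair (f x) (f y) p hpp.pos hfx hfy
    have h2 : f.ker.relIndex E = Nat.card (E.map f) := Subgroup.relIndex_ker E f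
    have h3 : Nat.card (f.ker.subgroupOf E) * (f.ker.subgroupOf E).index = Nat.card E :=
      Subgroup.card_mul_index _
    have h4 : Nat.card (f.ker.subgroupOf E) ≤ p := by
      rw [← hN, ← hker]
      let ψ : f.ker.subgroupOf E → f.ker := fun e => ⟨(e : E), e.2⟩
      apply Nat.card_le_card_of_injective ψ
      intro u v huv
      apply Subtype.ext
      apply Subtype.ext
      exact congrArg (fun w : f.ker => (w : B)) huv
    have h5 : (f.ker.subgroupOf E).index ≤ p * p := by
      have : (f.ker.subgroupOf E).index = f.ker.relIndex E := rfl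
      rw [this, h2]; exact h1
    calc Nat.card E = Nat.card (f.ker.subgroupOf E) * (f.ker.subgroupOf E).index := h3.symm
      _ ≤ p * (p * p) := Nat.mul_le_mul h4 h5
      _ = p ^ 3 := by ring
  have hk3' : k ≤ 3 := by
    rw [hk] at hcardE
    exact (Nat.pow_le_pow_iff_right hpp.one_lt).1 hcardE
  have hkeq : k = 3 := le_antisymm hk3' hk3
  have hEcard : Nat.card E = p ^ 3 := by rw [hk, hkeq]
  -- the centre is not contained in E
  have hZE : ¬ center B ≤ E := by
    intro hle
    -- then center B ≤ center E, which has order p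
    have hnaE : ¬ IsMulCommutative E := by
      intro hc
      apply hnab
      intro a ha b hb
      have := hc.is_comm.comm (⟨a, ha⟩ : E) ⟨b, hb⟩
      exact congrArg Subtype.val this
    have hcE : Nat.card (center E) = p := Cfsg.Agent.Helper22.card_center_of_card_cube p hEcard hnaE
    -- injection center B → center E
    let ψ : center B → center E := fun z =>
      ⟨⟨(z : B), hle z.2⟩, by
        rw [Subgroup.mem_center_iff]
        intro g
        apply Subtype.ext
        exact (Subgroup.mem_center_iff.1 z.2) (g : B)⟩
    have hψ : Function.Injective ψ := by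
      intro u v huv
      apply Subtype.ext
      have := congrArg (fun w : center E => ((w : E) : B)) huv
      exact this
    have := Nat.card_le_card_of_injective ψ hψ
    rw [hZ, hcE] at this
    have h2 : p ^ 2 = p * p := by ring
    rw [h2] at this
    have : p * p ≤ p * 1 := by simpa using this
    have := Nat.le_of_mul_le_mul_left this hpp.pos
    exact absurd hpp.one_lt (by omega)
  obtain ⟨c, hcZ, hcE⟩ := SetLike.not_le_iff_exists.1 hZE
  exact ⟨E, c, hEcard, hnab, hcZ, hel c hcZ, hcE⟩

end Cfsg.Agent.Helper8.E4
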