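import Mathlib
import Cfsg.Agent.Lib.E4.E4Defs

/-! S5188 piece E4-Z2POW (helper8 design; see plans/S5188_plan.md).  Proved by helper28. -/

set_option autoImplicit false

namespace Cfsg.Agent.Helper8.E4

open Subgroup

open scoped commutatorElement

variable {p : ℕ} [hp : Fact p.Prime] {B : Type*} [Group B] [Finite B]

theorem pow_mem_center (hB : Nat.card B = p ^ 4) (hZ : Nat.card (center B) = p ^ 2) (x : B) : x ^ p ∈ center B := by
  have hpp := hp.out
  have hq : Nat.card (B ⧸ center B) = p ^ 2 := by
    have h1 := Subgroup.card_eq_card_quotient_mul_card_subgroup (center B)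
    rw [hB, hZ] at h1
    have h2 : p ^ 2 * p ^ 2 = Nat.card (B ⧸ center B) * p ^ 2 := by rw [← h1]; ring
    exact (Nat.eq_of_mul_eq_mul_right (pow_pos hpp.pos 2) h2).symm
  have hncyc : ¬ IsCyclic (B ⧸ center B) := by
    intro hc
    have hcomm : ∀ a b : B, a * b = b * a :=
      commutative_of_cyclic_center_quotient (QuotientGroup.mk' (center B))
        (by rw [QuotientGroup.ker_mk'])
    have htop : center B = ⊤ := by
      rw [eq_top_iff]
      intro g _
      rw [Subgroup.mem_center_iff]
      intro h
      exact hcomm h g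
    have h4 : Nat.card (center B) = p ^ 4 := by rw [htop, Subgroup.card_top, hB]
    rw [hZ] at h4
    exact absurd (Nat.pow_right_injective hpp.two_le h4) (by norm_num)
  have hdvd : orderOf (x : B ⧸ center B) ∣ p ^ 2 := by
    rw [← hq]
    exact orderOf_dvd_natCard _
  obtain ⟨k, hk, hok⟩ := (Nat.dvd_prime_pow hpp).1 hdvd
  have hk1 : k ≤ 1 := by
    by_contra hcon
    have hk2 : k = 2 := by omega
    apply hncyc
    apply isCyclic_of_orderOf_eq_card (x : B ⧸ center B)
    rw [hok, hk2, hq]
  have hpow : (x : B ⧸ center B) ^ p = 1 := by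
    apply orderOf_dvd_iff_pow_eq_one.1
    rw [hok]
    exact (pow_dvd_pow p hk1).trans (by rw [pow_one])
  rw [← QuotientGroup.mk_pow] at hpow
  exact (QuotientGroup.eq_one_iff _).1 hpow

end Cfsg.Agent.Helper8.E4
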