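import Mathlib
import Cfsg.Agent.Lib.E4.E4Defs
import Cfsg.Agent.Lib.E4.E4Z2POW
import Cfsg.Agent.Lib.E4.E4Z2DER

/-! S5188 piece E4-TWOA (helper8 design; see plans/S5188_plan.md). -/

set_option autoImplicit false

namespace Cfsg.Agent.Helper8.E4

open Subgroup

open scoped commutatorElement

variable {p : ℕ} [hp : Fact p.Prime] {B : Type*} [Group B] [Finite B]

theorem e4_twoa_card_mul_relIndex {G : Type*} [Group G] {H K : Subgroup G} (hHK : H ≤ K) :
    Nat.card H * H.relIndex K = Nat.card K := by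
  have := Subgroup.relIndex_mul_relIndex ⊥ H K bot_le hHK
  rwa [Subgroup.relIndex_bot_left, Subgroup.relIndex_bot_left] at this

/-- `B'` has index two in `Z` -/
theorem e4_twoa_mul_mem_iff {G : Type*} [Group G] [Finite G] {D Z : Subgroup G} (hD : D ≤ Z)
    (hc : Nat.card D = 2) (hZ : Nat.card Z = 4) (u v : G) (hu : u ∈ Z) (hv : v ∈ Z) :
    u * v ∈ D ↔ (u ∈ D ↔ v ∈ D) := by
  have hidx : (D.subgroupOf Z).index = 2 := by
    have h1 := e4_twoa_card_mul_relIndex hD
    rw [hc, hZ] at h1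
    show D.relIndex Z = 2
    omega
  have h := Subgroup.mul_mem_iff_of_index_two hidx (a := (⟨u, hu⟩ : ↥Z)) (b := (⟨v, hv⟩ : ↥Z))
  rw [Subgroup.mem_subgroupOf, Subgroup.mem_subgroupOf, Subgroup.mem_subgroupOf] at h
  exact h

/-- in class two, `(x y)² = x² y² ⁅y, x⁆` -/
theorem e4_twoa_mul_sq {G : Type*} [Group G] (x y : G) (hc : ⁅y, x⁆ ∈ center G) :
    (x * y) ^ 2 = x ^ 2 * y ^ 2 * ⁅y, x⁆ := by
  have h1 : Commute x ⁅y, x⁆ := (Subgroup.mem_center_iff.1 hc x)
  have h2 : Commute y ⁅y, x⁆ := (Subgroup.mem_center_iff.1 hc y)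
  have := mul_pow_of_commutator_central x y h1 h2 2
  rw [this]
  norm_num

theorem hasChain_two_of_sq_not_mem (hB : Nat.card B = 2 ^ 4) (hZ : Nat.card (center B) = 2 ^ 2)
    (hel : ∀ z ∈ center B, z ^ 2 = 1) (h : ∃ x : B, x ^ 2 ∉ commutator B) : HasChain 2 B := by
  obtain ⟨hD, hc⟩ := card_commutator_of_center_sq (p := 2) hB hZ
  have hsqZ : ∀ x : B, x ^ 2 ∈ center B := pow_mem_center (p := 2) hB hZ
  have hZ4 : Nat.card (center B) = 4 := by rw [hZ]; norm_num
  have hcomm : ∀ x y : B, ⁅x, y⁆ ∈ commutator B := by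
    intro x y
    exact Subgroup.commutator_mem_commutator (Subgroup.mem_top x) (Subgroup.mem_top y)
  have hmulsq : ∀ x y : B, (x * y) ^ 2 ∈ commutator B ↔ x ^ 2 * y ^ 2 ∈ commutator B := by
    intro x y
    rw [e4_twoa_mul_sq x y (hD (hcomm y x))]
    exact Subgroup.mul_mem_cancel_right _ (hcomm y x)
  let K3 : Subgroup B :=
    { carrier := {x | x ^ 2 ∈ commutator B}
      mul_mem' := by
        intro x y hx hy
        exact (hmulsq x y).2 (Subgroup.mul_mem _ hx hy)
      one_mem' := by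
        show (1 : B) ^ 2 ∈ commutator B
        rw [one_pow]
        exact Subgroup.one_mem _
      inv_mem' := by
        intro x hx
        show (x⁻¹) ^ 2 ∈ commutator B
        rw [inv_pow]
        exact Subgroup.inv_mem _ hx }
  have hK3 : ∀ x : B, x ∈ K3 ↔ x ^ 2 ∈ commutator B := fun x => Iff.rfl
  obtain ⟨a, ha⟩ := h
  have hidx : K3.index = 2 := by
    rw [Subgroup.index_eq_two_iff]
    refine ⟨a, fun b => ?_⟩
    have key : b * a ∈ K3 ↔ ¬ b ∈ K3 := by
      rw [hK3, hK3, hmulsq b a,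
        e4_twoa_mul_mem_iff hD hc hZ4 (b ^ 2) (a ^ 2) (hsqZ b) (hsqZ a)]
      constructor
      · intro h1 h2
        exact ha (h1.1 h2)
      · intro h1
        exact ⟨fun h2 => absurd h2 h1, fun h2 => absurd h2 ha⟩
    by_cases hb : b ∈ K3
    · exact Or.inr ⟨hb, fun h1 => (key.1 h1) hb⟩
    · exact Or.inl ⟨key.2 hb, hb⟩
  have hcard : Nat.card K3 = 2 ^ 3 := by
    have h1 := Subgroup.card_mul_index K3
    rw [hidx, hB] at h1
    omega
  refine ⟨commutator B, center B, K3, hD, ?_, hc, hZ, hcard, inv_commutator, inv_center,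
    inv_of_pow_mem inv_commutator 2 hK3⟩
  intro z hz
  rw [hK3, hel z hz]
  exact Subgroup.one_mem _

end Cfsg.Agent.Helper8.E4
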