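import Mathlib
import Cfsg.Agent.Lib.E4.E4Defs
import Cfsg.Agent.Lib.E4.E4Z2DER
import Cfsg.Agent.Lib.E4.E4TWOA

/-! S5188 piece E4-TWOB (helper8 design; see plans/S5188_plan.md). -/

set_option autoImplicit false

namespace Cfsg.Agent.Helper8.E4

open Subgroup

open scoped commutatorElement

variable {p : ℕ} [hp : Fact p.Prime] {B : Type*} [Group B] [Finite B]

theorem e4_twob_five_le {α : Type*} [Finite α] (a b c d e : α) (hab : a ≠ b) (hac : a ≠ c)
    (had : a ≠ d) (hae : a ≠ e) (hbc : b ≠ c) (hbd : b ≠ d) (hbe : b ≠ e) (hcd : c ≠ d)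
    (hce : c ≠ e) (hde : d ≠ e) : 5 ≤ Nat.card α := by
  classical
  have : Fintype α := Fintype.ofFinite α
  rw [Nat.card_eq_fintype_card]
  have hnd : [a, b, c, d, e].Nodup := by
    simp [hab, hac, had, hae, hbc, hbd, hbe, hcd, hce, hde]
  exact hnd.length_le_card

/-- `B / Z` has only four cosets -/
theorem e4_twob_four_cosets (hB : Nat.card B = 2 ^ 4) (hZ : Nat.card (center B) = 2 ^ 2)
    (x y : B) (hx : x ∉ center B) (hy : y ∉ center B) (hxy : x * y ∉ center B)
    (hx2 : x ^ 2 ∈ center B) (g : B) :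
    g ∈ center B ∨ x⁻¹ * g ∈ center B ∨ y⁻¹ * g ∈ center B ∨ (x * y)⁻¹ * g ∈ center B := by
  by_contra hcon
  push Not at hcon
  obtain ⟨hg0, hg1, hg2, hg3⟩ := hcon
  have hcardQ : Nat.card (B ⧸ center B) = 4 := by
    have := Subgroup.card_eq_card_quotient_mul_card_subgroup (center B)
    rw [hB, hZ] at this
    omega
  have hne : ∀ a b : B, a⁻¹ * b ∉ center B → (a : B ⧸ center B) ≠ (b : B ⧸ center B) :=
    fun a b h e => h (QuotientGroup.eq.1 e)
  have h5 := e4_twob_five_le ((1 : B) : B ⧸ center B) (x : B ⧸ center B) (y : B ⧸ center B)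
    ((x * y : B) : B ⧸ center B) (g : B ⧸ center B)
    (hne 1 x (by simpa using hx)) (hne 1 y (by simpa using hy))
    (hne 1 (x * y) (by simpa using hxy)) (hne 1 g (by simpa using hg0))
    (hne x y (by
      intro h
      apply hxy
      have e : x * y = x ^ 2 * (x⁻¹ * y) := by group
      rw [e]
      exact Subgroup.mul_mem _ hx2 h))
    (hne x (x * y) (by
      have e : x⁻¹ * (x * y) = y := by group
      rw [e]; exact hy))
    (hne x g hg1)
    (hne y (x * y) (by
      intro h
      apply hx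
      have h1 := Subgroup.mem_center_iff.1 h y
      -- y * (y⁻¹ * (x * y)) = (y⁻¹ * (x * y)) * y
      have e : x = y⁻¹ * (x * y) := by
        have e1 : y * (y⁻¹ * (x * y)) = x * y := by group
        rw [e1] at h1
        exact mul_right_cancel h1
      rw [e]
      exact h))
    (hne y g hg2) (hne (x * y) g hg3)
  omega

/-- two elements outside `Z` in different cosets do not commute -/
theorem e4_twob_not_commute (hB : Nat.card B = 2 ^ 4) (hZ : Nat.card (center B) = 2 ^ 2)
    (x y : B) (hx : x ∉ center B) (hy : y ∉ center B) (hxy : x * y ∉ center B)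
    (hx2 : x ^ 2 ∈ center B) : ⁅y, x⁆ ≠ 1 := by
  intro hc
  have hcomm : y * x = x * y := (commutatorElement_eq_one_iff_commute.1 hc)
  apply hx
  rw [Subgroup.mem_center_iff]
  intro g
  rcases e4_twob_four_cosets hB hZ x y hx hy hxy hx2 g with h0 | h1 | h2 | h3
  · exact (Subgroup.mem_center_iff.1 h0 x).symm
  · obtain ⟨z, hz, rfl⟩ : ∃ z ∈ center B, g = x * z := ⟨x⁻¹ * g, h1, by group⟩
    have hzc := Subgroup.mem_center_iff.1 hz x
    calc x * z * x = x * (z * x) := mul_assoc _ _ _
      _ = x * (x * z) := by rw [hzc]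
  · obtain ⟨z, hz, rfl⟩ : ∃ z ∈ center B, g = y * z := ⟨y⁻¹ * g, h2, by group⟩
    have hzc := Subgroup.mem_center_iff.1 hz x
    calc y * z * x = y * (z * x) := mul_assoc _ _ _
      _ = y * (x * z) := by rw [hzc]
      _ = y * x * z := (mul_assoc _ _ _).symm
      _ = x * y * z := by rw [hcomm]
      _ = x * (y * z) := mul_assoc _ _ _
  · obtain ⟨z, hz, rfl⟩ : ∃ z ∈ center B, g = x * y * z := ⟨(x * y)⁻¹ * g, h3, by group⟩
    have hzc := Subgroup.mem_center_iff.1 hz x
    calc x * y * z * x = x * y * (z * x) := mul_assoc _ _ _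
      _ = x * y * (x * z) := by rw [hzc]
      _ = x * (y * x) * z := by simp only [mul_assoc]
      _ = x * (x * y) * z := by rw [hcomm]
      _ = x * (x * y * z) := by simp only [mul_assoc]

theorem hasChain_two_of_invol (hB : Nat.card B = 2 ^ 4) (hZ : Nat.card (center B) = 2 ^ 2)
    (hel : ∀ z ∈ center B, z ^ 2 = 1) (hsq : ∀ x : B, x ^ 2 ∈ commutator B)
    (h : ∃ x : B, x ∉ center B ∧ x ^ 2 = 1) : HasChain 2 B := by
  classical
  obtain ⟨hD, hc⟩ := card_commutator_of_center_sq (p := 2) hB hZ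
  have hZ4 : Nat.card (center B) = 4 := by rw [hZ]; norm_num
  have hB16 : Nat.card B = 16 := by rw [hB]; norm_num
  have hcommD : ∀ x y : B, ⁅x, y⁆ ∈ commutator B := by
    intro x y
    exact Subgroup.commutator_mem_commutator (Subgroup.mem_top x) (Subgroup.mem_top y)
  -- the nontrivial element `c` of `B'`
  obtain ⟨c, hc1, hcu⟩ : ∃ c : B, (c ∈ commutator B ∧ c ≠ 1) ∧
      ∀ d ∈ commutator B, d ≠ 1 → d = c := by
    obtain ⟨c, hc1, hcu⟩ := (Nat.card_eq_two_iff' (1 : ↥(commutator B))).1 hc
    refine ⟨c.1, ⟨c.2, fun h => hc1 (Subtype.ext h)⟩, fun d hd hd1 => ?_⟩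
    have := hcu ⟨d, hd⟩ (fun h => hd1 (congrArg Subtype.val h))
    exact congrArg Subtype.val this
  have hcc : c * c = 1 := by
    have := hel c (hD hc1.1)
    rwa [pow_two] at this
  have hsqZ : ∀ x : B, x ^ 2 ∈ center B := fun x => hD (hsq x)
  -- squares are constant on cosets of `Z`
  have hsqz : ∀ g z : B, z ∈ center B → (g * z) ^ 2 = g ^ 2 := by
    intro g z hz
    have h1 := Subgroup.mem_center_iff.1 hz g
    have h2 := hel z hz
    calc (g * z) ^ 2 = g * (z * g) * z := by rw [pow_two]; simp only [mul_assoc]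
      _ = g * (g * z) * z := by rw [← h1]
      _ = g ^ 2 * z ^ 2 := by rw [pow_two, pow_two]; simp only [mul_assoc]
      _ = g ^ 2 := by rw [h2, mul_one]
  obtain ⟨w, hwZ, hw2⟩ := h
  -- two elements with nontrivial square multiply into `Z`
  have key : ∀ x y : B, x ^ 2 ≠ 1 → y ^ 2 ≠ 1 → x * y ∈ center B := by
    intro x y hx2 hy2
    by_contra hxy
    have hxZ : x ∉ center B := fun hx => hx2 (hel x hx)
    have hyZ : y ∉ center B := fun hy => hy2 (hel y hy)
    have hxc : x ^ 2 = c := hcu _ (hsq x) hx2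
    have hyc : y ^ 2 = c := hcu _ (hsq y) hy2
    have hne : ⁅y, x⁆ ≠ 1 := e4_twob_not_commute hB hZ x y hxZ hyZ hxy (hsqZ x)
    have hcm : ⁅y, x⁆ = c := hcu _ (hcommD y x) hne
    have hxyc : (x * y) ^ 2 = c := by
      rw [e4_twoa_mul_sq x y (hD (hcommD y x)), hxc, hyc, hcm, mul_assoc, hcc, mul_one]
    rcases e4_twob_four_cosets hB hZ x y hxZ hyZ hxy (hsqZ x) w with h0 | h1 | h2 | h3
    · exact hwZ h0
    · have e : w = x * (x⁻¹ * w) := by group
      have hw := hsqz x _ h1
      rw [← e, hw2, hxc] at hw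
      exact hc1.2 hw.symm
    · have e : w = y * (y⁻¹ * w) := by group
      have hw := hsqz y _ h2
      rw [← e, hw2, hyc] at hw
      exact hc1.2 hw.symm
    · have e : w = x * y * ((x * y)⁻¹ * w) := by group
      have hw := hsqz (x * y) _ h3
      rw [← e, hw2, hxyc] at hw
      exact hc1.2 hw.symm
  let K3 : Subgroup B :=
    { carrier := {g | g ∈ center B ∨ g ^ 2 ≠ 1}
      mul_mem' := by
        intro a b ha hb
        rcases ha with ha | ha <;> rcases hb with hb | hb
        · exact Or.inl (Subgroup.mul_mem _ ha hb)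
        · right
          have h1 := Subgroup.mem_center_iff.1 ha b
          show (a * b) ^ 2 ≠ 1
          rw [← h1, hsqz b a ha]
          exact hb
        · right
          show (a * b) ^ 2 ≠ 1
          rw [hsqz a b hb]
          exact ha
        · exact Or.inl (key a b ha hb)
      one_mem' := Or.inl (Subgroup.one_mem _)
      inv_mem' := by
        intro a ha
        rcases ha with ha | ha
        · exact Or.inl (Subgroup.inv_mem _ ha)
        · right
          show (a⁻¹) ^ 2 ≠ 1
          rw [inv_pow, ne_eq, inv_eq_one]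
          exact ha }
  have hK3 : ∀ g : B, g ∈ K3 ↔ (g ∈ center B ∨ g ^ 2 ≠ 1) := fun g => Iff.rfl
  have hZK3 : center B ≤ K3 := fun z hz => Or.inl hz
  -- some square is nontrivial
  have hex : ∃ u : B, u ^ 2 ≠ 1 := by
    by_contra hall
    push Not at hall
    apply hwZ
    rw [Subgroup.mem_center_iff]
    intro g
    have hinv : ∀ a : B, a⁻¹ = a := by
      intro a
      apply inv_eq_of_mul_eq_one_right
      have := hall a
      rwa [pow_two] at this
    calc g * w = (g * w)⁻¹ := (hinv _).symm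
      _ = w⁻¹ * g⁻¹ := mul_inv_rev _ _
      _ = w * g := by rw [hinv w, hinv g]
  obtain ⟨u, hu⟩ := hex
  have huK : u ∈ K3 := Or.inr hu
  have huZ : u ∉ center B := fun h => hu (hel u h)
  have hwK : w ∉ K3 := by
    intro h
    rcases h with h | h
    · exact hwZ h
    · exact h hw2
  have hcard : Nat.card K3 = 2 ^ 3 := by
    have hdvd : Nat.card K3 ∣ 2 ^ 4 := by
      rw [← hB]
      exact Subgroup.card_subgroup_dvd_card K3
    have h4dvd : 4 ∣ Nat.card K3 := by
      rw [← hZ4]
      exact Subgroup.card_dvd_of_le hZK3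
    have hne4 : Nat.card K3 ≠ 4 := by
      intro h4
      have : center B = K3 := Subgroup.eq_of_le_of_card_ge hZK3 (by rw [h4, hZ4])
      exact huZ (this ▸ huK)
    have hne16 : Nat.card K3 ≠ 16 := by
      intro h16
      have : K3 = ⊤ := Subgroup.eq_top_of_card_eq K3 (by rw [h16, hB16])
      exact hwK (this ▸ Subgroup.mem_top w)
    obtain ⟨k, hk, hk'⟩ := (Nat.dvd_prime_pow Nat.prime_two).1 hdvd
    interval_cases k
    · rw [hk'] at h4dvd; norm_num at h4dvd
    · rw [hk'] at h4dvd; norm_num at h4dvd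
    · exact absurd (hk'.trans (by norm_num)) hne4
    · exact hk'
    · exact absurd (hk'.trans (by norm_num)) hne16
  refine ⟨commutator B, center B, K3, hD, hZK3, hc, hZ, hcard, inv_commutator, inv_center, ?_⟩
  intro α g hg
  rcases hg with hg | hg
  · exact Or.inl (inv_center α g hg)
  · right
    show (α g) ^ 2 ≠ 1
    rw [← map_pow]
    intro h1
    apply hg
    have := congrArg (α⁻¹ : MulAut B) h1
    rwa [MulAut.inv_apply_self, map_one] at this

end Cfsg.Agent.Helper8.E4
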