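import Mathlib
import Cfsg.Agent.Lib.E4.E4Defs
import Cfsg.Agent.Lib.E4.E4SPLIT
import Cfsg.Agent.Lib.E4.E4PRODISO
import Cfsg.Agent.Lib.E4.E4Z2DER
import Cfsg.Agent.Lib.Helper16.Q8Aut

/-! S5188 piece E4-TWOC (helper8 design; see plans/S5188_plan.md): `p = 2`, all squares in `B'`, no
involution outside the centre: `B ≃* Q8 × C2`.  (helper9) -/

set_option autoImplicit false

namespace Cfsg.Agent.Helper8.E4

open Subgroup

open scoped commutatorElement

variable {p : ℕ} [hp : Fact p.Prime] {B : Type*} [Group B] [Finite B]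

theorem mulEquiv_quaternion_prod (hB : Nat.card B = 2 ^ 4) (hZ : Nat.card (center B) = 2 ^ 2)
    (hel : ∀ z ∈ center B, z ^ 2 = 1) (hsq : ∀ x : B, x ^ 2 ∈ commutator B)
    (h : ∀ x : B, x ∉ center B → x ^ 2 ≠ 1) :
    Nonempty (B ≃* QuaternionGroup 2 × Multiplicative (ZMod 2)) := by
  obtain ⟨hB'Z, hB'card⟩ := card_commutator_of_center_sq (p := 2) hB hZ
  obtain ⟨E, c, hE, hEna, hcZ, hc2, hcE⟩ := exists_split (p := 2) hB hZ hel hsq
  push Not at hEna
  obtain ⟨a, haE, b, hbE, hab⟩ := hEna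
  -- the unique nonidentity element of `B'`
  obtain ⟨w, hw1, hwuniq⟩ := (Nat.card_eq_two_iff' (1 : commutator B)).1 hB'card
  have huniq : ∀ u ∈ commutator B, u ≠ 1 → u = (w : B) := by
    intro u hu hu1
    have h1 := hwuniq ⟨u, hu⟩ (by
      intro h2
      apply hu1
      exact congrArg Subtype.val h2)
    exact congrArg Subtype.val h1
  have haZ : a ∉ center B := by
    intro ha
    exact hab ((Subgroup.mem_center_iff.1 ha b).symm)
  have hbZ : b ∉ center B := by
    intro hb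
    exact hab (Subgroup.mem_center_iff.1 hb a)
  have ha2 : a ^ 2 = (w : B) := huniq _ (hsq a) (h a haZ)
  have hb2 : b ^ 2 = (w : B) := huniq _ (hsq b) (h b hbZ)
  have hcomm : ⁅b, a⁆ = (w : B) := by
    apply huniq
    · rw [commutator_def]
      exact Subgroup.commutator_mem_commutator (Subgroup.mem_top _) (Subgroup.mem_top _)
    · intro h1
      rw [commutatorElement_eq_one_iff_commute] at h1
      exact hab h1.eq.symm
  have ha4 : a ^ 4 = 1 := by
    have h1 : a ^ 4 = (a ^ 2) ^ 2 := by rw [← pow_mul]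
    rw [h1]
    exact hel _ (hB'Z (hsq a))
  have hconj : b * a * b⁻¹ = a⁻¹ := by
    have h1 : b * a * b⁻¹ = ⁅b, a⁆ * a := by
      rw [commutatorElement_def]; group
    rw [h1, hcomm, ← ha2, eq_inv_iff_mul_eq_one]
    calc a ^ 2 * a * a = a ^ 4 := by group
      _ = 1 := ha4
  have hord : orderOf a = 4 := by
    have h1 := orderOf_eq_prime_pow (p := 2) (n := 1) (x := a)
      (by simpa using h a haZ) (by simpa using ha4)
    simpa using h1
  have hQ : Cfsg.Agent.Helper16.Q8.IsQ8 (⟨a, haE⟩ : E) ⟨b, hbE⟩ := by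
    refine ⟨by rw [hE]; norm_num, ?_, ?_, ?_⟩
    · rw [Subgroup.orderOf_mk]; exact hord
    · apply Subtype.ext
      simp only [Subgroup.coe_pow]
      rw [hb2, ha2]
    · apply Subtype.ext
      simp only [Subgroup.coe_mul, Subgroup.coe_inv]
      exact hconj
  obtain ⟨e⟩ := hQ.nonempty_mulEquiv
  obtain ⟨f⟩ := mulEquiv_prod_of_central (p := 2) E c hcZ hc2 hcE (by rw [hE, hB]; norm_num)
  exact ⟨f.trans (MulEquiv.prodCongr e (MulEquiv.refl _))⟩

end Cfsg.Agent.Helper8.E4
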