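import Mathlib
import Cfsg.Agent.Lib.E4.E4Defs
import Cfsg.Agent.Lib.Helper19.PGroupBasic

/-! S5188 piece E4-Z1A (helper8 design; see plans/S5188_plan.md): in a group of order `p ^ 4` whose centre
has order `p`, the centre lies in the commutator subgroup. -/

set_option autoImplicit false

namespace Cfsg.Agent.Helper8.E4

open Subgroup

open scoped commutatorElement

variable {p : ℕ} [hp : Fact p.Prime] {B : Type*} [Group B] [Finite B]

theorem center_le_commutator (hB : Nat.card B = p ^ 4) (hZ : Nat.card (center B) = p) : center B ≤ commutator B := by
  have hpG : IsPGroup p B := IsPGroup.of_card hB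
  have hp1 : 1 < p := hp.out.one_lt
  have hne : commutator B ≠ ⊥ := by
    intro h0
    have htop : center B = ⊤ := by
      rw [eq_top_iff]
      intro x _
      rw [Subgroup.mem_center_iff]
      intro g
      have hmem : ⁅g, x⁆ ∈ commutator B := by
        rw [commutator_def]
        exact Subgroup.commutator_mem_commutator (Subgroup.mem_top g) (Subgroup.mem_top x)
      rw [h0, Subgroup.mem_bot] at hmem
      exact commutatorElement_eq_one_iff_mul_comm.mp hmem
    rw [htop, Subgroup.card_top, hB] at hZ
    have : p ^ 1 < p ^ 4 := Nat.pow_lt_pow_right hp1 (by norm_num)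
    rw [pow_one] at this
    omega
  have h1 := Cfsg.Agent.Helper19.normal_inf_center_ne_bot hpG (commutator B) hne
  -- the intersection is a nontrivial subgroup of the centre, of prime order
  have hle : commutator B ⊓ center B ≤ center B := inf_le_right
  have hdvd : Nat.card ↥(commutator B ⊓ center B) ∣ Nat.card ↥(center B) :=
    Subgroup.card_dvd_of_le hle
  rw [hZ] at hdvd
  have hcard : Nat.card ↥(commutator B ⊓ center B) = p := by
    rcases (Nat.dvd_prime hp.out).mp hdvd with h | h
    · exfalso
      exact h1 (Subgroup.card_eq_one.mp h)
    · exact h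
  have heq : commutator B ⊓ center B = center B := by
    apply Subgroup.eq_of_le_of_card_ge hle
    rw [hcard, hZ]
  rw [← heq]
  exact inf_le_left

end Cfsg.Agent.Helper8.E4
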