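import Mathlib
import Cfsg.Agent.Lib.E4.E4Defs
import Cfsg.Agent.Lib.E4.E4Z2DER

/-! S5188 piece E4-Z1B (helper8 design; see plans/S5188_plan.md).  Proved by helper8 (insurance). -/

set_option autoImplicit false

namespace Cfsg.Agent.Helper8.E4

open Subgroup

open scoped commutatorElement

variable {p : ℕ} [hp : Fact p.Prime] {B : Type*} [Group B] [Finite B]

/-- class two, centre of order `p`: the centraliser of a non-central element has order `p ^ 3` -/
theorem e4_z1b_card_ker (hB : Nat.card B = p ^ 4) (hZ : Nat.card (center B) = p)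
    (hc : ∀ u v : B, ⁅u, v⁆ ∈ center B) (a : B) (ha : a ∉ center B) :
    Nat.card (e4_z2der_hom hc a).ker = p ^ 3 := by
  have hpp := hp.out
  have hle : (e4_z2der_hom hc a).range ≤ center B := by
    rintro _ ⟨g, rfl⟩
    rw [e4_z2der_hom_apply]
    exact hc a g
  have hd : Nat.card (e4_z2der_hom hc a).range ∣ p := by
    rw [← hZ]
    exact Subgroup.card_dvd_of_le hle
  have hne : Nat.card (e4_z2der_hom hc a).range ≠ 1 := by
    intro h1
    apply ha
    rw [Subgroup.mem_center_iff]
    intro g
    have hbot : (e4_z2der_hom hc a).range = ⊥ := Subgroup.card_eq_one.1 h1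
    have hg : e4_z2der_hom hc a g ∈ (e4_z2der_hom hc a).range := ⟨g, rfl⟩
    rw [hbot, Subgroup.mem_bot, e4_z2der_hom_apply, commutatorElement_eq_one_iff_commute] at hg
    exact hg.eq.symm
  have hr : Nat.card (e4_z2der_hom hc a).range = p := by
    rcases (Nat.dvd_prime hpp).1 hd with h | h
    · exact absurd h hne
    · exact h
  have h1 := Subgroup.card_mul_index (e4_z2der_hom hc a).ker
  rw [Subgroup.index_ker, hr, hB] at h1
  have h2 : Nat.card (e4_z2der_hom hc a).ker * p = p ^ 3 * p := by rw [h1]; ring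
  exact Nat.eq_of_mul_eq_mul_right hpp.pos h2

theorem commutator_ne_center (hB : Nat.card B = p ^ 4) (hZ : Nat.card (center B) = p) :
    commutator B ≠ center B := by
  have hpp := hp.out
  intro hEq
  -- class two
  have hc : ∀ u v : B, ⁅u, v⁆ ∈ center B := by
    intro u v
    rw [← hEq]
    exact Subgroup.commutator_mem_commutator (Subgroup.mem_top u) (Subgroup.mem_top v)
  -- a non-central element
  have hxex : ∃ x : B, x ∉ center B := by
    by_contra hcon
    push Not at hcon
    have htop : center B = ⊤ := by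
      rw [eq_top_iff]
      intro g _
      exact hcon g
    have h1 : Nat.card (center B) = Nat.card B := by
      rw [htop, Subgroup.card_top]
    rw [hZ, hB] at h1
    have h2 : p ^ 1 = p ^ 4 := by rw [pow_one]; exact h1
    have := Nat.pow_right_injective hpp.two_le h2
    omega
  obtain ⟨x, hx⟩ := hxex
  have hyex : ∃ y : B, ⁅x, y⁆ ≠ 1 := by
    by_contra hcon
    push Not at hcon
    apply hx
    rw [Subgroup.mem_center_iff]
    intro g
    have := hcon g
    rw [commutatorElement_eq_one_iff_commute] at this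
    exact this.eq.symm
  obtain ⟨y, hxy⟩ := hyex
  have hy : y ∉ center B := by
    intro hyZ
    apply hxy
    rw [commutatorElement_eq_one_iff_commute]
    exact (Subgroup.mem_center_iff.mp hyZ x)
  set Kx := (e4_z2der_hom hc x).ker with hKx
  set Ky := (e4_z2der_hom hc y).ker with hKy
  have hKxc : Nat.card Kx = p ^ 3 := e4_z1b_card_ker hB hZ hc x hx
  have hKyc : Nat.card Ky = p ^ 3 := e4_z1b_card_ker hB hZ hc y hy
  have hxKx : x ∈ Kx := (e4_z2der_mem_ker hc x x).2 rfl
  have hyKy : y ∈ Ky := (e4_z2der_mem_ker hc y y).2 rfl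
  have hxKy : x ∉ Ky := by
    intro h
    have h1 := (e4_z2der_mem_ker hc y x).1 h
    apply hxy
    rw [commutatorElement_eq_one_iff_commute]
    exact h1.symm
  have hyKx : y ∉ Kx := by
    intro h
    have h1 := (e4_z2der_mem_ker hc x y).1 h
    apply hxy
    rw [commutatorElement_eq_one_iff_commute]
    exact h1
  set D : Subgroup B := Kx ⊓ Ky with hD
  -- the order of `D` is `p ^ 2`
  have hidx : ∀ K : Subgroup B, Nat.card K = p ^ 3 → K.index = p := by
    intro K hK
    have h1 := Subgroup.card_mul_index K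
    rw [hK, hB] at h1
    have h2 : p ^ 3 * K.index = p ^ 3 * p := by rw [h1]; ring
    exact Nat.eq_of_mul_eq_mul_left (pow_pos hpp.pos 3) h2
  have hDidx : D.index ≤ p * p := by
    have := Subgroup.index_inf_le (H := Kx) (K := Ky)
    rw [hidx Kx hKxc, hidx Ky hKyc] at this
    exact this
  have hDd : Nat.card D ∣ p ^ 3 := by
    rw [← hKxc]
    exact Subgroup.card_dvd_of_le inf_le_left
  obtain ⟨k, hk3, hk⟩ := (Nat.dvd_prime_pow hpp).1 hDd
  have hkne3 : k ≠ 3 := by
    intro h3
    apply hxKy
    have heq : D = Kx := Subgroup.eq_of_le_of_card_ge inf_le_left (by rw [hk, h3, hKxc])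
    have : x ∈ D := by rw [heq]; exact hxKx
    exact (Subgroup.mem_inf.1 this).2
  have hk2 : 2 ≤ k := by
    have h1 := Subgroup.card_mul_index D
    rw [hk, hB] at h1
    by_contra hlt
    push Not at hlt
    have h3 : p ^ k * D.index ≤ p ^ 1 * (p * p) :=
      Nat.mul_le_mul (Nat.pow_le_pow_right hpp.pos (by omega)) hDidx
    rw [h1] at h3
    have h4 : p ^ 1 * (p * p) = p ^ 3 := by ring
    rw [h4] at h3
    have := (Nat.pow_le_pow_iff_right hpp.one_lt).1 h3
    omega
  have hkeq : k = 2 := by omega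
  have hDc : Nat.card D = p ^ 2 := by rw [hk, hkeq]
  -- `D` is commutative
  have hDcomm : ∀ a ∈ D, ∀ b ∈ D, a * b = b * a := by
    intro a ha b hb
    have h := (IsPGroup.isMulCommutative_of_card_eq_prime_sq hDc).is_comm.comm
      (⟨a, ha⟩ : D) ⟨b, hb⟩
    exact congrArg Subtype.val h
  -- `D` is central
  have hDZ : D ≤ center B := by
    intro a haD
    by_contra haZ
    set Ka := (e4_z2der_hom hc a).ker with hKa
    have hKac : Nat.card Ka = p ^ 3 := e4_z1b_card_ker hB hZ hc a haZ
    have haKx : a ∈ Kx := (Subgroup.mem_inf.1 haD).1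
    have haKy : a ∈ Ky := (Subgroup.mem_inf.1 haD).2
    have hxKa : x ∈ Ka := by
      rw [hKa, e4_z2der_mem_ker]
      exact ((e4_z2der_mem_ker hc x a).1 haKx).symm
    have hyKa : y ∈ Ka := by
      rw [hKa, e4_z2der_mem_ker]
      exact ((e4_z2der_mem_ker hc y a).1 haKy).symm
    have hDKa : D ≤ Ka := by
      intro d hd
      rw [hKa, e4_z2der_mem_ker]
      exact hDcomm a haD d hd
    -- `Kx ≤ Ka`
    have key : ∀ (K : Subgroup B) (w : B), Nat.card K = p ^ 3 → D ≤ K → w ∈ K → w ∉ D → w ∈ Ka →
        K ≤ Ka := by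
      intro K w hK hDK hwK hwD hwKa
      have hle : D ≤ Ka ⊓ K := le_inf hDKa hDK
      have hd : Nat.card (Ka ⊓ K : Subgroup B) ∣ p ^ 3 := by
        rw [← hK]
        exact Subgroup.card_dvd_of_le inf_le_right
      obtain ⟨m, hm3, hm⟩ := (Nat.dvd_prime_pow hpp).1 hd
      have hm2 : 2 ≤ m := by
        have h1 : p ^ 2 ∣ p ^ m := by
          rw [← hm, ← hDc]
          exact Subgroup.card_dvd_of_le hle
        exact (Nat.pow_dvd_pow_iff_le_right hpp.one_lt).1 h1
      have hmne2 : m ≠ 2 := by
        intro h2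
        apply hwD
        have heq : D = (Ka ⊓ K : Subgroup B) :=
          Subgroup.eq_of_le_of_card_ge hle (by rw [hm, h2, hDc])
        rw [heq]
        exact Subgroup.mem_inf.2 ⟨hwKa, hwK⟩
      have hm3' : m = 3 := by omega
      have heq : (Ka ⊓ K : Subgroup B) = K :=
        Subgroup.eq_of_le_of_card_ge inf_le_right (by rw [hm, hm3', hK])
      rw [← heq]
      exact inf_le_left
    have hxD : x ∉ D := fun h => hxKy (Subgroup.mem_inf.1 h).2
    have hKxKa : Kx ≤ Ka := key Kx x hKxc inf_le_left hxKx hxD hxKa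
    have hyD : y ∉ D := fun h => hyKx (Subgroup.mem_inf.1 h).1
    have hKyKa : Ky ≤ Ka := key Ky y hKyc inf_le_right hyKy hyD hyKa
    have e1 : Kx = Ka := Subgroup.eq_of_le_of_card_ge hKxKa (by rw [hKxc, hKac])
    have e2 : Ky = Ka := Subgroup.eq_of_le_of_card_ge hKyKa (by rw [hKyc, hKac])
    apply hxKy
    rw [e2, ← e1]
    exact hxKx
  have hle := Subgroup.card_le_of_le hDZ
  rw [hDc, hZ] at hle
  have : p ^ 2 ≤ p ^ 1 := by rw [pow_one]; exact hle
  have := (Nat.pow_le_pow_iff_right hpp.one_lt).1 this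
  omega

end Cfsg.Agent.Helper8.E4
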