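import Mathlib
import Cfsg.Agent.Lib.E4.E4Defs

/-! S5188 piece E4-Z1C (helper8 design; see plans/S5188_plan.md).  Proved by helper28. -/

set_option autoImplicit false

namespace Cfsg.Agent.Helper8.E4

open Subgroup

open scoped commutatorElement

/-- if `G / G'` is cyclic then `G' ≤ ⁅G', G⁆` -/
theorem e4_z1c_le {G : Type*} [Group G] (hc : IsCyclic (G ⧸ commutator G)) :
    commutator G ≤ ⁅commutator G, (⊤ : Subgroup G)⁆ := by
  haveI hLn : (⁅commutator G, (⊤ : Subgroup G)⁆).Normal := Subgroup.commutator_normal _ _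
  rw [← Subgroup.Normal.quotient_commutative_iff_commutator_le]
  obtain ⟨X, hX⟩ := hc.exists_generator
  obtain ⟨x, rfl⟩ := QuotientGroup.mk_surjective X
  have hdec : ∀ g : G, ∃ (i : ℤ) (u : G), u ∈ commutator G ∧ g = x ^ i * u := by
    intro g
    obtain ⟨i, hi⟩ := Subgroup.mem_zpowers_iff.1 (hX (g : G ⧸ commutator G))
    refine ⟨i, (x ^ i)⁻¹ * g, ?_, by group⟩
    rw [← QuotientGroup.eq, QuotientGroup.mk_zpow]
    exact hi
  have hcen : ∀ u ∈ commutator G, ∀ y : G,
      ((u : G) : G ⧸ ⁅commutator G, (⊤ : Subgroup G)⁆) * (y : G ⧸ ⁅commutator G, (⊤ : Subgroup G)⁆)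
        = (y : G ⧸ ⁅commutator G, (⊤ : Subgroup G)⁆) * (u : G ⧸ ⁅commutator G, (⊤ : Subgroup G)⁆) := by
    intro u hu y
    rw [← QuotientGroup.mk_mul, ← QuotientGroup.mk_mul, QuotientGroup.eq]
    have e : (u * y)⁻¹ * (y * u) = ⁅u⁻¹, y⁻¹⁆⁻¹ := by
      simp only [commutatorElement_def]; group
    rw [e]
    exact inv_mem (Subgroup.commutator_mem_commutator (inv_mem hu) (Subgroup.mem_top _))
  refine ⟨⟨fun a b => ?_⟩⟩
  induction a using QuotientGroup.induction_on with
  | H a =>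
    induction b using QuotientGroup.induction_on with
    | H b =>
      obtain ⟨i, u, hu, rfl⟩ := hdec a
      obtain ⟨j, v, hv, rfl⟩ := hdec b
      rw [QuotientGroup.mk_mul, QuotientGroup.mk_mul]
      have hxx : ((x ^ i : G) : G ⧸ ⁅commutator G, (⊤ : Subgroup G)⁆) * ((x ^ j : G) : G ⧸ _)
          = ((x ^ j : G) : G ⧸ _) * ((x ^ i : G) : G ⧸ _) := by
        rw [← QuotientGroup.mk_mul, ← QuotientGroup.mk_mul, zpow_mul_comm]
      calc ((x ^ i : G) : G ⧸ ⁅commutator G, (⊤ : Subgroup G)⁆) * (u : G ⧸ _)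
            * (((x ^ j : G) : G ⧸ _) * (v : G ⧸ _))
          = ((x ^ i : G) : G ⧸ _) * ((u : G ⧸ _) * ((x ^ j : G) : G ⧸ _)) * (v : G ⧸ _) := by
            simp only [mul_assoc]
        _ = ((x ^ i : G) : G ⧸ _) * (((x ^ j : G) : G ⧸ _) * (u : G ⧸ _)) * (v : G ⧸ _) := by
            rw [hcen u hu (x ^ j)]
        _ = (((x ^ i : G) : G ⧸ _) * ((x ^ j : G) : G ⧸ _)) * ((u : G ⧸ _) * (v : G ⧸ _)) := by
            simp only [mul_assoc]
        _ = (((x ^ j : G) : G ⧸ _) * ((x ^ i : G) : G ⧸ _)) * ((v : G ⧸ _) * (u : G ⧸ _)) := by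
            rw [hxx, hcen u hu v]
        _ = ((x ^ j : G) : G ⧸ _) * (((x ^ i : G) : G ⧸ _) * (v : G ⧸ _)) * (u : G ⧸ _) := by
            simp only [mul_assoc]
        _ = ((x ^ j : G) : G ⧸ _) * ((v : G ⧸ _) * ((x ^ i : G) : G ⧸ _)) * (u : G ⧸ _) := by
            rw [hcen v hv (x ^ i)]
        _ = ((x ^ j : G) : G ⧸ _) * (v : G ⧸ _) * (((x ^ i : G) : G ⧸ _) * (u : G ⧸ _)) := by
            simp only [mul_assoc]

/-- a nilpotent group with `G' ≤ ⁅G', G⁆` is abelian -/
theorem e4_z1c_eq_bot {G : Type*} [Group G] (hnil : Group.IsNilpotent G)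
    (hle : commutator G ≤ ⁅commutator G, (⊤ : Subgroup G)⁆) : commutator G = ⊥ := by
  obtain ⟨n, hn⟩ := Subgroup.nilpotent_iff_lowerCentralSeries.1 hnil
  have key : ∀ m, commutator G ≤ (⊤ : Subgroup G).lowerCentralSeries (m + 1) := by
    intro m
    induction m with
    | zero => exact le_of_eq (Subgroup.top_lowerCentralSeries_one).symm
    | succ m ih =>
      rw [Subgroup.lowerCentralSeries_succ]
      exact hle.trans (Subgroup.commutator_mono ih le_rfl)
  have h1 : commutator G ≤ (⊤ : Subgroup G).lowerCentralSeries n := by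
    cases n with
    | zero => rw [Subgroup.lowerCentralSeries_zero]; exact le_top
    | succ m => exact key m
  rw [hn] at h1
  exact le_bot_iff.1 h1

variable {p : ℕ} [hp : Fact p.Prime] {B : Type*} [Group B] [Finite B]

theorem card_commutator_dvd (hB : Nat.card B = p ^ 4) : Nat.card (commutator B) ∣ p ^ 2 := by
  have hpp := hp.out
  have hPG : IsPGroup p B := IsPGroup.of_card hB
  have hnil : Group.IsNilpotent B := hPG.isNilpotent
  have hdvd : Nat.card (commutator B) ∣ p ^ 4 := hB ▸ Subgroup.card_subgroup_dvd_card _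
  obtain ⟨k, hk, hck⟩ := (Nat.dvd_prime_pow hpp).1 hdvd
  by_cases hk2 : k ≤ 2
  · rw [hck]
    exact pow_dvd_pow p hk2
  · have hq : Nat.card (B ⧸ commutator B) * p ^ k = p ^ 4 := by
      rw [← hck, ← hB]
      exact (Subgroup.card_eq_card_quotient_mul_card_subgroup _).symm
    have hq' : Nat.card (B ⧸ commutator B) = p ^ (4 - k) := by
      have h3 : p ^ (4 - k) * p ^ k = p ^ 4 := by
        rw [← pow_add]
        congr 1
        omega
      exact Nat.eq_of_mul_eq_mul_right (pow_pos hpp.pos k) (hq.trans h3.symm)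
    have hcyc : IsCyclic (B ⧸ commutator B) := by
      have h4k : 4 - k = 0 ∨ 4 - k = 1 := by omega
      rcases h4k with h0 | h1
      · rw [h0, pow_zero] at hq'
        haveI : Subsingleton (B ⧸ commutator B) := (Nat.card_eq_one_iff_unique.1 hq').1
        exact isCyclic_of_subsingleton
      · rw [h1, pow_one] at hq'
        exact isCyclic_of_prime_card hq'
    have hbot := e4_z1c_eq_bot hnil (e4_z1c_le hcyc)
    rw [hbot, Subgroup.card_bot]
    exact one_dvd _

end Cfsg.Agent.Helper8.E4
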