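import Mathlib
import Cfsg.Agent.Lib.E4.E4Defs
import Cfsg.Agent.Lib.Helper19.PGroupBasic

/-! S5188 piece E4-Z1E (helper8 design; see plans/S5188_plan.md). Proof by helper19. -/

set_option autoImplicit false

namespace Cfsg.Agent.Helper8.E4

open Subgroup

open scoped commutatorElement

variable {p : ℕ} [hp : Fact p.Prime] {B : Type*} [Group B] [Finite B]

/-- there is `b ∈ B' \ Z` all of whose commutators are central -/
theorem z1e_exists_b (hB : Nat.card B = p ^ 4) (hZ : Nat.card (center B) = p)
    (hD : Nat.card (commutator B) = p ^ 2) :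
    ∃ b ∈ commutator B, b ∉ center B ∧ ∀ g : B, ⁅g, b⁆ ∈ center B := by
  have hpp : p.Prime := hp.out
  have hPG : IsPGroup p B := IsPGroup.of_card hB
  have hDZ : ¬ commutator B ≤ center B := by
    intro h
    have h1 := Subgroup.card_dvd_of_le h
    rw [hD, hZ] at h1
    have h2 : p ^ 2 ≤ p := Nat.le_of_dvd hpp.pos h1
    have h3 : 2 ≤ p := hpp.two_le
    nlinarith
  let π := QuotientGroup.mk' (center B)
  have hπsurj : Function.Surjective π := QuotientGroup.mk'_surjective (center B)
  have hNnorm : ((commutator B).map π).Normal :=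
    Subgroup.Normal.map (inferInstance : (commutator B).Normal) π hπsurj
  have hNne : (commutator B).map π ≠ ⊥ := by
    intro h
    apply hDZ
    intro x hx
    have h1 : π x ∈ (commutator B).map π := Subgroup.mem_map_of_mem π hx
    rw [h, Subgroup.mem_bot] at h1
    exact (QuotientGroup.eq_one_iff x).1 h1
  have hQ : IsPGroup p (B ⧸ center B) := hPG.to_quotient (center B)
  have hne := Cfsg.Agent.Helper19.normal_inf_center_ne_bot hQ ((commutator B).map π) hNne
  rw [Ne, Subgroup.eq_bot_iff_forall] at hne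
  push Not at hne
  obtain ⟨x, hx, hx1⟩ := hne
  rw [Subgroup.mem_inf] at hx
  obtain ⟨hxN, hxc⟩ := hx
  obtain ⟨b, hbD, rfl⟩ := Subgroup.mem_map.1 hxN
  refine ⟨b, hbD, ?_, ?_⟩
  · intro hbZ
    exact hx1 ((QuotientGroup.eq_one_iff b).2 hbZ)
  · intro g
    rw [Subgroup.mem_center_iff] at hxc
    have h1 := hxc (π g)
    apply (QuotientGroup.eq_one_iff _).1
    show π ⁅g, b⁆ = 1
    rw [commutatorElement_def, map_mul, map_mul, map_mul, map_inv, map_inv, h1]
    group

theorem card_centralizer_commutator (hB : Nat.card B = p ^ 4) (hZ : Nat.card (center B) = p)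
    (hD : Nat.card (commutator B) = p ^ 2) (hZD : center B ≤ commutator B) :
    commutator B ≤ centralizer (commutator B : Set B) ∧
      Nat.card (centralizer (commutator B : Set B)) = p ^ 3 := by
  have hpp : p.Prime := hp.out
  -- B' is abelian
  have hDab : ∀ x ∈ commutator B, ∀ y ∈ commutator B, x * y = y * x := by
    intro x hx y hy
    have hc := (IsPGroup.isMulCommutative_of_card_eq_prime_sq hD).is_comm.comm
      (⟨x, hx⟩ : commutator B) ⟨y, hy⟩
    exact congrArg Subtype.val hc
  have hDcent : commutator B ≤ centralizer (commutator B : Set B) := by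
    intro x hx
    rw [mem_centralizer_iff]
    intro y hy
    exact hDab y hy x hx
  refine ⟨hDcent, ?_⟩
  obtain ⟨b, hbD, hbZ, hcomm⟩ := z1e_exists_b hB hZ hD
  -- the homomorphism g ↦ ⁅g, b⁆ into the centre
  have hmul : ∀ g h : B, ⁅g * h, b⁆ = ⁅g, b⁆ * ⁅h, b⁆ := by
    intro g h
    have h1 : ⁅g * h, b⁆ = g * ⁅h, b⁆ * g⁻¹ * ⁅g, b⁆ := by
      simp only [commutatorElement_def]; group
    have h2 : g * ⁅h, b⁆ = ⁅h, b⁆ * g := (Subgroup.mem_center_iff.1 (hcomm h) g)
    have h3 : ⁅g, b⁆ * ⁅h, b⁆ = ⁅h, b⁆ * ⁅g, b⁆ := (Subgroup.mem_center_iff.1 (hcomm h) _)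
    rw [h1, h2, mul_assoc, mul_assoc, mul_inv_cancel_left, h3]
  let φ : B →* center B :=
    { toFun := fun g => ⟨⁅g, b⁆, hcomm g⟩
      map_one' := by
        apply Subtype.ext
        show ⁅(1 : B), b⁆ = 1
        simp
      map_mul' := fun g h => by
        apply Subtype.ext
        show ⁅g * h, b⁆ = ⁅g, b⁆ * ⁅h, b⁆
        exact hmul g h }
  have hφ : ∀ g : B, ((φ g : center B) : B) = ⁅g, b⁆ := fun g => rfl
  have hker : ∀ g : B, g ∈ φ.ker ↔ g * b = b * g := by
    intro g
    rw [MonoidHom.mem_ker]
    constructor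
    · intro h
      have h1 : ⁅g, b⁆ = 1 := by rw [← hφ g, h]; rfl
      exact (commutatorElement_eq_one_iff_mul_comm.1 h1)
    · intro h
      apply Subtype.ext
      rw [hφ g]
      exact commutatorElement_eq_one_iff_mul_comm.2 h
  -- range of φ has order p
  have hrange : Nat.card φ.range = p := by
    have h1 : Nat.card φ.range ∣ p := hZ ▸ Subgroup.card_subgroup_dvd_card φ.range
    rcases (Nat.dvd_prime hpp).1 h1 with h | h
    · exfalso
      apply hbZ
      rw [Subgroup.mem_center_iff]
      intro g
      have hg : φ g ∈ φ.range := ⟨g, rfl⟩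
      have hbot : φ.range = ⊥ := Subgroup.card_eq_one.1 h
      rw [hbot, Subgroup.mem_bot] at hg
      exact (hker g).1 (MonoidHom.mem_ker.2 hg)
    · exact h
  have hindex : φ.ker.index = p := by rw [Subgroup.index_ker, hrange]
  have hcardker : Nat.card φ.ker = p ^ 3 := by
    have h1 := φ.ker.card_mul_index
    rw [hindex, hB] at h1
    have h2 : Nat.card φ.ker * p = p ^ 3 * p := by rw [h1]; ring
    exact Nat.eq_of_mul_eq_mul_right hpp.pos h2
  -- centralizer of B' equals ker φ
  have hle1 : centralizer (commutator B : Set B) ≤ φ.ker := by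
    intro g hg
    rw [hker]
    exact (mem_centralizer_iff.1 hg b hbD).symm
  have hle2 : φ.ker ≤ centralizer (commutator B : Set B) := by
    rw [Subgroup.le_centralizer_iff]
    -- H = B' ⊓ C(ker φ) contains Z and b
    have hZH : center B ≤ commutator B ⊓ centralizer (φ.ker : Set B) := by
      refine le_inf hZD ?_
      intro z hz
      rw [mem_centralizer_iff]
      intro g _
      exact (Subgroup.mem_center_iff.1 hz g)
    have hbH : b ∈ commutator B ⊓ centralizer (φ.ker : Set B) := by
      refine ⟨hbD, ?_⟩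
      show b ∈ centralizer (φ.ker : Set B)
      rw [mem_centralizer_iff]
      intro g hg
      exact (hker g).1 hg
    have hdvd1 : Nat.card ↥(commutator B ⊓ centralizer (φ.ker : Set B)) ∣ p ^ 2 :=
      hD ▸ Subgroup.card_dvd_of_le inf_le_left
    have hdvd2 : p ∣ Nat.card ↥(commutator B ⊓ centralizer (φ.ker : Set B)) :=
      hZ ▸ Subgroup.card_dvd_of_le hZH
    obtain ⟨k, hk2, hk⟩ := (Nat.dvd_prime_pow hpp).1 hdvd1
    have hk1 : 1 ≤ k := by
      rcases Nat.eq_zero_or_pos k with h0 | h0
      · rw [h0, pow_zero] at hk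
        rw [hk] at hdvd2
        exact absurd (Nat.le_of_dvd one_pos hdvd2) (by have := hpp.two_le; omega)
      · exact h0
    have hk' : k = 2 := by
      rcases Nat.lt_or_ge k 2 with hlt | hge
      · exfalso
        have hk1' : k = 1 := by omega
        rw [hk1', pow_one] at hk
        have heq : center B = commutator B ⊓ centralizer (φ.ker : Set B) :=
          Subgroup.eq_of_le_of_card_ge hZH (by rw [hk, hZ])
        exact hbZ (heq ▸ hbH)
      · omega
    rw [hk'] at hk
    have heq : commutator B ⊓ centralizer (φ.ker : Set B) = commutator B :=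
      Subgroup.eq_of_le_of_card_ge inf_le_left (by rw [hk, hD])
    rw [← heq]
    exact inf_le_right
  rw [le_antisymm hle1 hle2]
  exact hcardker

end Cfsg.Agent.Helper8.E4
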