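import Mathlib
import Cfsg.Agent.Lib.E4.E4Defs

/-! S5188 piece E4-Z2CASES (helper8 design; see plans/S5188_plan.md): a centre of order `p ^ 2` is
cyclic or of exponent `p`.  (helper22) -/

set_option autoImplicit false

namespace Cfsg.Agent.Helper8.E4

open Subgroup

open scoped commutatorElement

variable {p : ℕ} [hp : Fact p.Prime] {B : Type*} [Group B] [Finite B]

theorem center_cyclic_or_elementary (hZ : Nat.card (center B) = p ^ 2) :
    IsCyclic (center B) ∨ ∀ z ∈ center B, z ^ p = 1 := by
  by_cases h : ∃ z : center B, orderOf z = p ^ 2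
  · left
    obtain ⟨z, hz⟩ := h
    exact isCyclic_of_orderOf_eq_card z (by rw [hz, hZ])
  · right
    intro z hz
    have h1 : orderOf (⟨z, hz⟩ : center B) ∣ p ^ 2 := by
      rw [← hZ]; exact orderOf_dvd_natCard _
    obtain ⟨k, hk, hk2⟩ := (Nat.dvd_prime_pow hp.out).1 h1
    have hk1 : k ≤ 1 := by
      by_contra hcon
      have : k = 2 := by omega
      rw [this] at hk2
      exact h ⟨_, hk2⟩
    have h2 : orderOf (⟨z, hz⟩ : center B) ∣ p := by
      rw [hk2]
      calc p ^ k ∣ p ^ 1 := Nat.pow_dvd_pow p hk1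
        _ = p := pow_one p
    have h3 : (⟨z, hz⟩ : center B) ^ p = 1 := orderOf_dvd_iff_pow_eq_one.mp h2
    have h4 := congrArg (fun x : center B => (x : B)) h3
    simpa using h4

end Cfsg.Agent.Helper8.E4
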