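import Mathlib
import Cfsg.Agent.Lib.E4.E4Defs

/-! S5188 piece E4-Z2COMM (helper8 design; see plans/S5188_plan.md).  Proved by helper8 (insurance). -/

set_option autoImplicit false

namespace Cfsg.Agent.Helper8.E4

open Subgroup

open scoped commutatorElement

variable {p : ℕ} [hp : Fact p.Prime] {B : Type*} [Group B] [Finite B]

theorem commutator_mem_center (hB : Nat.card B = p ^ 4) (hZ : Nat.card (center B) = p ^ 2) (x y : B) :
    ⁅x, y⁆ ∈ center B := by
  have hpp : p.Prime := hp.out
  have hq : Nat.card (B ⧸ center B) = p ^ 2 := by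
    have h1 := Subgroup.card_eq_card_quotient_mul_card_subgroup (center B)
    rw [hB, hZ] at h1
    have h2 : p ^ 4 = p ^ 2 * p ^ 2 := by ring
    rw [h2] at h1
    exact (Nat.eq_of_mul_eq_mul_right (pow_pos hpp.pos 2) h1).symm
  have hcomm : ∀ a b : B ⧸ center B, a * b = b * a :=
    fun a b => (IsPGroup.isMulCommutative_of_card_eq_prime_sq hq).is_comm.comm a b
  rw [← QuotientGroup.eq_one_iff, commutatorElement_def]
  simp only [QuotientGroup.mk_mul, QuotientGroup.mk_inv]
  rw [hcomm (↑x) (↑y)]
  group

end Cfsg.Agent.Helper8.E4
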