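import Mathlib
import Cfsg.Agent.Lib.E4.E4Defs
import Cfsg.Agent.Lib.E4.E4Z2DER
import Cfsg.Agent.Lib.E4.E4Z2POW

/-! S5188 piece E4-Z2EXP3 (helper8 design; see plans/S5188_plan.md), implemented by helper11.
Chain `B' ≤ Z(B) ≤ {x | x ^ (p ^ 2) = 1}` when `|Z(B)| = p ^ 2` and `B` has an element of order `p ^ 3`. -/

set_option autoImplicit false

namespace Cfsg.Agent.Helper8.E4

open Subgroup

open scoped commutatorElement

variable {p : ℕ} [hp : Fact p.Prime] {B : Type*} [Group B] [Finite B]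

theorem e4_z2exp3_mul_pow (hB : Nat.card B = p ^ 4) (hZ : Nat.card (center B) = p ^ 2)
    (x y : B) : (x * y) ^ (p ^ 2) = x ^ (p ^ 2) * y ^ (p ^ 2) := by
  obtain ⟨hle, hder⟩ := card_commutator_of_center_sq hB hZ
  have hc : ⁅y, x⁆ ∈ commutator B :=
    Subgroup.commutator_mem_commutator (Subgroup.mem_top y) (Subgroup.mem_top x)
  have hcz : ⁅y, x⁆ ∈ center B := hle hc
  have hcp : ⁅y, x⁆ ^ p = 1 := by
    have h := pow_card_eq_one' (G := commutator B) (x := ⟨⁅y, x⁆, hc⟩)
    rw [hder] at h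
    have h2 := congrArg Subtype.val h
    simpa using h2
  have hcomm := Subgroup.mem_center_iff.mp hcz
  have hx : Commute x ⁅y, x⁆ := hcomm x
  have hy : Commute y ⁅y, x⁆ := hcomm y
  have hdvd : p ∣ (p ^ 2).choose 2 := by
    apply Nat.Prime.dvd_choose_pow hp.out (by norm_num)
    intro h
    have h2 : 2 ≤ p := hp.out.two_le
    nlinarith
  obtain ⟨m, hm⟩ := hdvd
  rw [mul_pow_of_commutator_central x y hx hy, hm, pow_mul, hcp, one_pow, mul_one]

theorem hasChain_of_exp_cube (hB : Nat.card B = p ^ 4) (hZ : Nat.card (center B) = p ^ 2) (hex : ∃ x : B, x ^ (p ^ 2) ≠ 1) :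
    HasChain p B := by
  obtain ⟨hle, hder⟩ := card_commutator_of_center_sq hB hZ
  let φ : B →* B := MonoidHom.mk' (fun x => x ^ (p ^ 2)) (fun x y => e4_z2exp3_mul_pow hB hZ x y)
  have hφ : ∀ x, φ x = x ^ (p ^ 2) := fun x => rfl
  have hRle : φ.range ≤ center B := by
    rintro _ ⟨x, rfl⟩
    rw [hφ, pow_two, pow_mul]
    exact pow_mem (pow_mem_center hB hZ x) p
  have hZker : center B ≤ φ.ker := by
    intro z hz
    rw [MonoidHom.mem_ker, hφ]
    have h := pow_card_eq_one' (G := center B) (x := ⟨z, hz⟩)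
    rw [hZ] at h
    have h2 := congrArg Subtype.val h
    simpa using h2
  have hcube : ∀ y : B, y ^ (p ^ 3) = 1 := by
    intro y
    have h1 : y ^ p ∈ φ.ker := hZker (pow_mem_center hB hZ y)
    rw [MonoidHom.mem_ker, hφ, ← pow_mul] at h1
    rw [pow_succ' p 2]
    exact h1
  have hRne : φ.range ≠ ⊥ := by
    obtain ⟨x, hx⟩ := hex
    intro h
    apply hx
    have h1 : φ x ∈ φ.range := ⟨x, rfl⟩
    rw [h, Subgroup.mem_bot] at h1
    exact h1
  have hRneZ : φ.range ≠ center B := by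
    intro h
    obtain ⟨x, hx⟩ := hex
    apply hx
    have h1 : x ^ p ∈ φ.range := by
      rw [h]; exact pow_mem_center hB hZ x
    obtain ⟨y, hy⟩ := h1
    rw [hφ] at hy
    rw [pow_two, pow_mul, ← hy, ← pow_mul, ← pow_succ]
    exact hcube y
  have hRcard : Nat.card φ.range = p := by
    have hdvd : Nat.card φ.range ∣ p ^ 2 := by
      rw [← hZ]; exact Subgroup.card_dvd_of_le hRle
    obtain ⟨k, hk2, hk⟩ := (Nat.dvd_prime_pow hp.out).mp hdvd
    interval_cases k
    · exfalso
      apply hRne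
      rw [pow_zero] at hk
      exact Subgroup.card_eq_one.mp hk
    · rw [hk, pow_one]
    · exfalso
      apply hRneZ
      exact Subgroup.eq_of_le_of_card_ge hRle (by rw [hZ, hk])
  have hKcard : Nat.card φ.ker = p ^ 3 := by
    have h1 := φ.ker.card_mul_index
    rw [Subgroup.index_ker, hRcard, hB] at h1
    have h2 : p ^ 3 * p = p ^ 4 := by ring
    rw [← h2] at h1
    exact Nat.eq_of_mul_eq_mul_right hp.out.pos h1
  have hKinv : Inv φ.ker := by
    apply inv_ker φ (fun α c => α c)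
    · intro α x
      rw [hφ, hφ, map_pow]
    · intro α
      exact map_one α
  exact ⟨commutator B, center B, φ.ker, hle, hZker, hder, hZ, hKcard, inv_commutator, inv_center, hKinv⟩

end Cfsg.Agent.Helper8.E4
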