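import Mathlib
import Cfsg.Agent.Lib.E4.E4Defs
import Cfsg.Agent.Lib.E4.E4Z2POW
import Cfsg.Agent.Lib.E4.E4Z2COMM

/-! S5188 piece E4-Z2ODDHOM (helper8 design; see plans/S5188_plan.md).  Proved by helper25, using the
statements of the pieces E4-Z2POW (`pow_mem_center`) and E4-Z2COMM (`commutator_mem_center`). -/

set_option autoImplicit false

namespace Cfsg.Agent.Helper8.E4

open Subgroup

open scoped commutatorElement

variable {p : ℕ} [hp : Fact p.Prime] {B : Type*} [Group B] [Finite B]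

/-- if `⁅y, x⁆` is central then `⁅y ^ n, x⁆ = ⁅y, x⁆ ^ n`. -/
theorem e4_z2oddhom_commutator_pow {C : Type*} [Group C] (x y : C) (hc : ⁅y, x⁆ ∈ center C) (n : ℕ) :
    ⁅y ^ n, x⁆ = ⁅y, x⁆ ^ n := by
  induction n with
  | zero => simp
  | succ n ih =>
    have hcn : ⁅y, x⁆ ^ n ∈ center C := Subgroup.pow_mem _ hc n
    have hcomm : y * ⁅y, x⁆ ^ n = ⁅y, x⁆ ^ n * y := (mem_center_iff.mp hcn) y
    have h1 : ⁅y ^ (n + 1), x⁆ = y * ⁅y ^ n, x⁆ * y⁻¹ * ⁅y, x⁆ := by
      rw [pow_succ']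
      simp only [commutatorElement_def]
      group
    rw [h1, ih, hcomm, mul_assoc (⁅y, x⁆ ^ n), mul_inv_cancel, mul_one, pow_succ]

theorem mul_pow_prime (hB : Nat.card B = p ^ 4) (hZ : Nat.card (center B) = p ^ 2) (hp2 : p ≠ 2) (x y : B) :
    (x * y) ^ p = x ^ p * y ^ p := by
  have hc : ⁅y, x⁆ ∈ center B := commutator_mem_center hB hZ y x
  have hcx : Commute x ⁅y, x⁆ := (mem_center_iff.mp hc) x
  have hcy : Commute y ⁅y, x⁆ := (mem_center_iff.mp hc) y
  -- `⁅y, x⁆ ^ p = ⁅y ^ p, x⁆ = 1` since `y ^ p` is central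
  have hyp : y ^ p ∈ center B := pow_mem_center hB hZ y
  have hcp : ⁅y, x⁆ ^ p = 1 := by
    rw [← e4_z2oddhom_commutator_pow x y hc p, commutatorElement_def]
    have h := (mem_center_iff.mp hyp) x
    rw [← h]
    group
  -- `p ∣ p.choose 2`
  have hp3 : 2 < p := lt_of_le_of_ne hp.out.two_le (Ne.symm hp2)
  have hdvd : p ∣ p.choose 2 := hp.out.dvd_choose_self (by norm_num) hp3
  obtain ⟨k, hk⟩ := hdvd
  rw [mul_pow_of_commutator_central x y hcx hcy p, hk, pow_mul, hcp, one_pow, mul_one]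

end Cfsg.Agent.Helper8.E4
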