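import Mathlib
import Cfsg.Agent.Lib.E4.E4Defs
import Cfsg.Agent.Lib.E4.E4Z2ODDHOM
import Cfsg.Agent.Lib.E4.E4Z2DER

/-! S5188 piece E4-Z2ODDCH3 (helper8 design; see plans/S5188_plan.md).  Proof by helper7:
chain `B' ≤ Z ≤ ker (x ↦ x ^ p)`. -/

set_option autoImplicit false

namespace Cfsg.Agent.Helper8.E4

open Subgroup

open scoped commutatorElement

variable {p : ℕ} [hp : Fact p.Prime] {B : Type*} [Group B] [Finite B]

theorem hasChain_of_ker_cube (hB : Nat.card B = p ^ 4) (hZ : Nat.card (center B) = p ^ 2) (hp2 : p ≠ 2) (hel : ∀ z ∈ center B, z ^ p = 1)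
    (hk : Nat.card {x : B // x ^ p = 1} = p ^ 3) : HasChain p B := by
  let ψ : B →* B :=
    { toFun := fun x => x ^ p
      map_one' := one_pow p
      map_mul' := fun x y => mul_pow_prime hB hZ hp2 x y }
  have hker : ∀ x : B, x ∈ ψ.ker ↔ x ^ p = 1 := fun x => MonoidHom.mem_ker
  have hcard : Nat.card {x : B // x ^ p = 1} = Nat.card ψ.ker :=
    Nat.card_congr (Equiv.subtypeEquivRight (fun x => (hker x).symm))
  have hZle : center B ≤ ψ.ker := fun z hz => (hker z).2 (hel z hz)
  obtain ⟨hder, hdcard⟩ := card_commutator_of_center_sq (p := p) hB hZ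
  refine ⟨commutator B, center B, ψ.ker, hder, hZle, hdcard, hZ, ?_, inv_commutator, inv_center, ?_⟩
  · rw [← hcard, hk]
  · exact inv_of_pow_mem (K := (⊥ : Subgroup B)) (fun α y hy => by
      rw [Subgroup.mem_bot] at hy ⊢
      rw [hy, map_one]) p (fun x => by rw [hker, Subgroup.mem_bot])

end Cfsg.Agent.Helper8.E4
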