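import Mathlib
import Cfsg.Agent.Lib.E4.E4Defs
import Cfsg.Agent.Lib.E4.E4Z2ODDHOM

/-! S5188 piece E4-Z2ODDKER (helper8 design; see plans/S5188_plan.md). Proof by helper19. -/

set_option autoImplicit false

namespace Cfsg.Agent.Helper8.E4

open Subgroup

open scoped commutatorElement

variable {p : ℕ} [hp : Fact p.Prime] {B : Type*} [Group B] [Finite B]

theorem card_ker_cases (hB : Nat.card B = p ^ 4) (hZ : Nat.card (center B) = p ^ 2) (hp2 : p ≠ 2) (hel : ∀ z ∈ center B, z ^ p = 1) :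
    Nat.card {x : B // x ^ p = 1} = p ^ 2 ∨ Nat.card {x : B // x ^ p = 1} = p ^ 3 ∨
      ∀ x : B, x ^ p = 1 := by
  let ψ : B →* B :=
    { toFun := fun x => x ^ p
      map_one' := one_pow p
      map_mul' := fun x y => mul_pow_prime hB hZ hp2 x y }
  have hker : ∀ x : B, x ∈ ψ.ker ↔ x ^ p = 1 := fun x => MonoidHom.mem_ker
  have hcard : Nat.card {x : B // x ^ p = 1} = Nat.card ψ.ker :=
    Nat.card_congr (Equiv.subtypeEquivRight (fun x => (hker x).symm))
  have hZle : center B ≤ ψ.ker := fun z hz => (hker z).2 (hel z hz)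
  have hdvd1 : Nat.card ψ.ker ∣ p ^ 4 := hB ▸ Subgroup.card_subgroup_dvd_card ψ.ker
  have hdvd2 : p ^ 2 ∣ Nat.card ψ.ker := hZ ▸ Subgroup.card_dvd_of_le hZle
  obtain ⟨k, hk4, hk⟩ := (Nat.dvd_prime_pow hp.out).1 hdvd1
  have h2k : 2 ≤ k := (Nat.pow_dvd_pow_iff_le_right hp.out.one_lt).1 (hk ▸ hdvd2)
  rw [hcard, hk]
  interval_cases k
  · left; rfl
  · right; left; rfl
  · right; right
    intro x
    have htop : ψ.ker = ⊤ := by
      apply (Subgroup.card_eq_iff_eq_top ψ.ker).1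
      rw [hk, hB]
    have hx : x ∈ ψ.ker := htop ▸ Subgroup.mem_top x
    exact (hker x).1 hx

end Cfsg.Agent.Helper8.E4
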