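import Mathlib
import Cfsg.Agent.Lib.E4.E4Defs
import Cfsg.Agent.Lib.E4.E4ABKER
import Cfsg.Agent.Lib.E4.E4ABRANK
import Cfsg.Agent.Lib.E4.E4ABGEN
import Cfsg.Agent.Lib.E4.E4ABISO
import Cfsg.Agent.Lib.E4.E4CENTER
import Cfsg.Agent.Lib.E4.E4Z2POW
import Cfsg.Agent.Lib.E4.E4Z2COMM
import Cfsg.Agent.Lib.E4.E4Z2DER
import Cfsg.Agent.Lib.E4.E4Z2CASES
import Cfsg.Agent.Lib.E4.E4Z2EXP3
import Cfsg.Agent.Lib.E4.E4Z2ODDHOM
import Cfsg.Agent.Lib.E4.E4Z2ODDKER
import Cfsg.Agent.Lib.E4.E4Z2ODDCH3
import Cfsg.Agent.Lib.E4.E4Z2ODDCH2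
import Cfsg.Agent.Lib.E4.E4SPLIT
import Cfsg.Agent.Lib.E4.E4PRODISO
import Cfsg.Agent.Lib.E4.E4TWOA
import Cfsg.Agent.Lib.E4.E4TWOB
import Cfsg.Agent.Lib.E4.E4TWOC
import Cfsg.Agent.Lib.E4.E4Z1A
import Cfsg.Agent.Lib.E4.E4Z1B
import Cfsg.Agent.Lib.E4.E4Z1C
import Cfsg.Agent.Lib.E4.E4Z1E

/-!
# S5188 (helper8 design): the groups of order `p ^ 4`, for essential subgroups

`fourth_cases`: a group of order `p ^ 4` is of one of the types in the statement S5188 (with the
abelian groups of rank at most two left to S5187), or it has an automorphism-invariant chain with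
steps of index `p`.
-/

set_option autoImplicit false

namespace Cfsg.Agent.Helper8.E4

open Subgroup

open scoped commutatorElement

variable {p : ℕ} [hp : Fact p.Prime] {B : Type*} [Group B] [Finite B]

/-- the case of a centre of order `p` -/
theorem hasChain_of_center_prime (hB : Nat.card B = p ^ 4) (hZ : Nat.card (center B) = p) :
    HasChain p B := by
  have hpp : p.Prime := hp.out
  have hZD := center_le_commutator hB hZ
  have hne := commutator_ne_center hB hZ
  have hdvd := card_commutator_dvd (p := p) hB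
  have hD : Nat.card (commutator B) = p ^ 2 := by
    obtain ⟨k, hk, hkc⟩ := (Nat.dvd_prime_pow hpp).1 hdvd
    have hle : Nat.card (center B) ≤ Nat.card (commutator B) := Subgroup.card_le_of_le hZD
    have hk1 : 1 ≤ k := by
      rcases Nat.eq_zero_or_pos k with h0 | h0
      · exfalso
        rw [hkc, h0, pow_zero, hZ] at hle
        exact absurd hle (by have := hpp.two_le; omega)
      · exact h0
    have hk2 : k ≠ 1 := by
      intro h1
      apply hne
      symm
      apply Subgroup.eq_of_le_of_card_ge hZD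
      rw [hkc, h1, pow_one, hZ]
    have : k = 2 := by omega
    rw [hkc, this]
  obtain ⟨hle, hC⟩ := card_centralizer_commutator hB hZ hD hZD
  exact ⟨center B, commutator B, centralizer (commutator B : Set B), hZD, hle, hZ, hD, hC,
    inv_center, inv_commutator, inv_centralizer inv_commutator⟩

/-- Summary: the possibilities for a group of order `p ^ 4`. -/
theorem fourth_cases (hB : Nat.card B = p ^ 4) :
    ((∀ a b : B, a * b = b * a) ∧ ∀ x : B, x ^ p = 1) ∨
    Nonempty (B ≃* Multiplicative (ZMod (p ^ 2) × ZMod p × ZMod p)) ∨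
    ((∀ a b : B, a * b = b * a) ∧ (frattini B).index ≤ p ^ 2) ∨
    (p ≠ 2 ∧ ∃ E : Subgroup B, Nat.card E = p ^ 3 ∧ (¬ ∀ a ∈ E, ∀ b ∈ E, a * b = b * a) ∧
      (∀ x : B, x ^ p = 1) ∧ Nonempty (B ≃* ↥E × Multiplicative (ZMod p))) ∨
    (p = 2 ∧ Nonempty (B ≃* QuaternionGroup 2 × Multiplicative (ZMod 2))) ∨
    ((¬ ∀ a b : B, a * b = b * a) ∧ (∀ x : B, x ^ (p ^ 2) = 1) ∧ IsCyclic (center B) ∧
      Nat.card (center B) = p ^ 2) ∨
    HasChain p B := by
  have hpp : p.Prime := hp.out
  by_cases hc : ∀ a b : B, a * b = b * a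
  · rcases card_ker_abelian_cases hB hc with h | h | h
    · exact Or.inl ⟨hc, h⟩
    · obtain ⟨a, b, c, ha, hb, hcc, hind⟩ := exists_independent_of_abelian hB hc h
      exact Or.inr (Or.inl (mulEquiv_of_independent hB hc a b c ha hb hcc hind))
    · exact Or.inr (Or.inr (Or.inl ⟨hc, frattini_index_le_of_abelian hB hc h⟩))
  · rcases card_center_cases hB hc with hZ | hZ
    · exact Or.inr (Or.inr (Or.inr (Or.inr (Or.inr (Or.inr (hasChain_of_center_prime hB hZ))))))
    · by_cases hex : ∃ x : B, x ^ (p ^ 2) ≠ 1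
      · exact Or.inr (Or.inr (Or.inr (Or.inr (Or.inr (Or.inr (hasChain_of_exp_cube hB hZ hex))))))
      · push Not at hex
        rcases center_cyclic_or_elementary (p := p) hZ with hcyc | hel
        · exact Or.inr (Or.inr (Or.inr (Or.inr (Or.inr (Or.inl ⟨hc, hex, hcyc, hZ⟩)))))
        · by_cases hp2 : p = 2
          · subst hp2
            by_cases hA : ∃ x : B, x ^ 2 ∉ commutator B
            · exact Or.inr (Or.inr (Or.inr (Or.inr (Or.inr (Or.inr
                (hasChain_two_of_sq_not_mem hB hZ hel hA))))))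
            · push Not at hA
              by_cases hI : ∃ x : B, x ∉ center B ∧ x ^ 2 = 1
              · exact Or.inr (Or.inr (Or.inr (Or.inr (Or.inr (Or.inr
                  (hasChain_two_of_invol hB hZ hel hA hI))))))
              · push Not at hI
                exact Or.inr (Or.inr (Or.inr (Or.inr (Or.inl
                  ⟨rfl, mulEquiv_quaternion_prod hB hZ hel hA hI⟩))))
          · rcases card_ker_cases hB hZ hp2 hel with hk | hk | hk
            · exact Or.inr (Or.inr (Or.inr (Or.inr (Or.inr (Or.inr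
                (hasChain_of_ker_sq hB hZ hp2 hel hk))))))
            · exact Or.inr (Or.inr (Or.inr (Or.inr (Or.inr (Or.inr
                (hasChain_of_ker_cube hB hZ hp2 hel hk))))))
            · have hsq : ∀ x : B, x ^ p ∈ commutator B := by
                intro x
                rw [hk x]
                exact one_mem _
              obtain ⟨E, c, hE, hEna, hcZ, hcp, hcE⟩ := exists_split hB hZ hel hsq
              have hcard : Nat.card E * p = Nat.card B := by
                rw [hE, hB]; ring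
              exact Or.inr (Or.inr (Or.inr (Or.inl ⟨hp2, E, hE, hEna, hk,
                mulEquiv_prod_of_central E c hcZ hcp hcE hcard⟩)))

end Cfsg.Agent.Helper8.E4
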