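import Mathlib
import Cfsg.Agent.Lib.E4.E4Defs

/-! S5188 piece E4-TYPE0 (helper8 design; see plans/S5188_plan.md): a finite group has a copy living in
`Type` (transport of structure to `Fin n`). -/

set_option autoImplicit false

namespace Cfsg.Agent.Helper8.E4

open Subgroup

open scoped commutatorElement

variable {p : ℕ} [hp : Fact p.Prime] {B : Type*} [Group B] [Finite B]

theorem exists_small_copy (E₀ : Type*) [Group E₀] [Finite E₀] :
    ∃ (E : Type) (_ : Group E) (_ : Finite E), Nonempty (E₀ ≃* E) := by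
  let e : E₀ ≃ {i : ℕ // i < Nat.card E₀} := (Finite.equivFin E₀).trans Fin.equivSubtype
  let inst : Group {i : ℕ // i < Nat.card E₀} := e.symm.group
  exact ⟨{i : ℕ // i < Nat.card E₀}, inst, Finite.of_equiv _ e, ⟨(e.symm.mulEquiv).symm⟩⟩

end Cfsg.Agent.Helper8.E4
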