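import Mathlib
import Cfsg.Agent.Lib.E4.E4Defs
import Cfsg.Agent.Lib.E4.E4Z2POW
import Cfsg.Agent.Lib.E4.E4Z2DER
import Cfsg.Agent.Lib.E4.E4Z2ODDHOM

/-! S5188 piece E4-Z2ODDCH2 (helper8 design; see plans/S5188_plan.md): `p` odd, centre elementary of order
`p²`, the `p`-th power map has kernel of order `p²`: the chain `B' < Z < {x | x ^ p ∈ B'}`. -/

set_option autoImplicit false

namespace Cfsg.Agent.Helper8.E4

open Subgroup

open scoped commutatorElement

variable {p : ℕ} [hp : Fact p.Prime] {B : Type*} [Group B] [Finite B]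

theorem hasChain_of_ker_sq (hB : Nat.card B = p ^ 4) (hZ : Nat.card (center B) = p ^ 2) (hp2 : p ≠ 2) (hel : ∀ z ∈ center B, z ^ p = 1)
    (hk : Nat.card {x : B // x ^ p = 1} = p ^ 2) : HasChain p B := by
  have hp0 : 0 < p := hp.out.pos
  obtain ⟨hder, hdercard⟩ := card_commutator_of_center_sq (p := p) hB hZ
  -- the p-th power homomorphism
  let ψ : B →* B := MonoidHom.mk' (fun x => x ^ p) (fun x y => mul_pow_prime hB hZ hp2 x y)
  have hψ : ∀ x, ψ x = x ^ p := fun x => rfl
  have hkercard : Nat.card ψ.ker = p ^ 2 := by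
    rw [← hk]
    apply Nat.card_congr
    exact Equiv.subtypeEquivRight (fun x => by rw [MonoidHom.mem_ker, hψ])
  have hrangele : ψ.range ≤ center B := by
    rintro y ⟨x, rfl⟩
    rw [hψ]
    exact pow_mem_center hB hZ x
  have hrangecard : Nat.card ψ.range = p ^ 2 := by
    have h1 : Nat.card B = Nat.card (B ⧸ ψ.ker) * Nat.card ψ.ker :=
      Subgroup.card_eq_card_quotient_mul_card_subgroup ψ.ker
    have h2 : Nat.card (B ⧸ ψ.ker) = Nat.card ψ.range :=
      Nat.card_congr (QuotientGroup.quotientKerEquivRange ψ).toEquiv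
    rw [h2, hB, hkercard] at h1
    have h3 : p ^ 4 = p ^ 2 * p ^ 2 := by ring
    rw [h3] at h1
    exact (Nat.eq_of_mul_eq_mul_right (pow_pos hp0 2) h1).symm
  have hrange : ψ.range = center B := by
    apply Subgroup.eq_of_le_of_card_ge hrangele
    rw [hrangecard, hZ]
  -- the third term
  let K₃ : Subgroup B := (commutator B).comap ψ
  have hK₃mem : ∀ x, x ∈ K₃ ↔ x ^ p ∈ commutator B := by
    intro x
    show ψ x ∈ commutator B ↔ _
    rw [hψ]
  have hZK₃ : center B ≤ K₃ := by
    intro z hz
    rw [hK₃mem, hel z hz]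
    exact one_mem _
  have hrel : (commutator B).relIndex (center B) = p := by
    have h1 := Subgroup.relIndex_mul_relIndex (⊥ : Subgroup B) (commutator B) (center B)
      bot_le hder
    rw [Subgroup.relIndex_bot_left, Subgroup.relIndex_bot_left, hdercard, hZ] at h1
    have h3 : p ^ 2 = p * p := by ring
    rw [h3] at h1
    exact Nat.eq_of_mul_eq_mul_left hp0 h1
  have hindex : K₃.index = p := by
    show ((commutator B).comap ψ).index = p
    rw [Subgroup.index_comap, hrange, hrel]
  have hK₃card : Nat.card K₃ = p ^ 3 := by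
    have h1 := Subgroup.card_mul_index K₃
    rw [hindex, hB] at h1
    have h3 : p ^ 4 = p ^ 3 * p := by ring
    rw [h3] at h1
    exact Nat.eq_of_mul_eq_mul_right hp0 h1
  have hK₃inv : Inv K₃ := inv_of_pow_mem inv_commutator p hK₃mem
  exact ⟨commutator B, center B, K₃, hder, hZK₃, hdercard, hZ, hK₃card, inv_commutator,
    inv_center, hK₃inv⟩

end Cfsg.Agent.Helper8.E4
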